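import Cfsg.Agent.H567.KB.Line

/-!
# Weyl group data of `E₇` (S4822, KE4; helper567)

`w3` of type `A₂ × A₂ × A₂` (order 3), `w6` its negative, `w4` of type `A₃ × A₃` (order 4), `v3`, `v4` the last factors.
-/

set_option autoImplicit false
set_option maxRecDepth 100000
set_option maxHeartbeats 8000000

namespace Cfsg.Agent.H567.KB.E7

open Cfsg Cfsg.Lie Cfsg.Lie.ChevalleyDatum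
open Cfsg.Agent.ChevalleyStructure.CoxeterGeomTypes Cfsg.Agent.Nodes.RGDChev Cfsg.Agent.H129.WData
open Cfsg.Agent.H567.KB

/-- the Cartan matrix -/
def Am : Mat 7 := ![![2, 0, -1, 0, 0, 0, 0], ![0, 2, 0, -1, 0, 0, 0], ![-1, 0, 2, -1, 0, 0, 0], ![0, -1, -1, 2, -1, 0, 0], ![0, 0, 0, -1, 2, -1, 0], ![0, 0, 0, 0, -1, 2, -1], ![0, 0, 0, 0, 0, -1, 2]]

/-- type `3 A₂` -/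
def w3 : List (Fin 7 × Mat 7) := [
    (0, ![![1, 2, 3, 4, 3, 2, 1], ![0, 0, 0, 1, 0, 0, 0], ![-1, -1, -2, -3, -3, -2, -1], ![0, -1, 0, -1, 0, 0, 0], ![0, 1, 0, 1, 1, 1, 0], ![0, 0, 0, 0, 0, 0, 1], ![0, 0, 0, 0, 0, -1, -1]]),
    (1, ![![2, 2, 3, 4, 3, 2, 1], ![0, 0, 0, 1, 0, 0, 0], ![-1, -1, -2, -3, -3, -2, -1], ![0, -1, 0, -1, 0, 0, 0], ![0, 1, 0, 1, 1, 1, 0], ![0, 0, 0, 0, 0, 0, 1], ![0, 0, 0, 0, 0, -1, -1]]),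
    (2, ![![2, 2, 3, 4, 3, 2, 1], ![0, 1, 0, 1, 0, 0, 0], ![-1, -2, -2, -3, -3, -2, -1], ![0, 0, 0, -1, 0, 0, 0], ![0, 0, 0, 1, 1, 1, 0], ![0, 0, 0, 0, 0, 0, 1], ![0, 0, 0, 0, 0, -1, -1]]),
    (3, ![![2, 2, 3, 4, 3, 2, 1], ![0, 1, 1, 1, 0, 0, 0], ![-1, -2, -2, -3, -3, -2, -1], ![0, 0, -1, -1, 0, 0, 0], ![0, 0, 1, 1, 1, 1, 0], ![0, 0, 0, 0, 0, 0, 1], ![0, 0, 0, 0, 0, -1, -1]]),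
    (1, ![![2, 2, 3, 4, 3, 2, 1], ![0, 1, 1, 1, 0, 0, 0], ![-1, -2, -2, -4, -3, -2, -1], ![0, 0, -1, 0, 0, 0, 0], ![0, 0, 1, 1, 1, 1, 0], ![0, 0, 0, 0, 0, 0, 1], ![0, 0, 0, 0, 0, -1, -1]]),
    (2, ![![2, 2, 3, 4, 3, 2, 1], ![0, 0, 1, 1, 0, 0, 0], ![-1, -2, -2, -4, -3, -2, -1], ![0, 0, -1, 0, 0, 0, 0], ![0, 1, 1, 1, 1, 1, 0], ![0, 0, 0, 0, 0, 0, 1], ![0, 0, 0, 0, 0, -1, -1]]),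
    (4, ![![2, 2, 3, 4, 3, 2, 1], ![0, 0, 0, 1, 0, 0, 0], ![-1, -2, -3, -4, -3, -2, -1], ![0, 0, 1, 0, 0, 0, 0], ![0, 1, 0, 1, 1, 1, 0], ![0, 0, 0, 0, 0, 0, 1], ![0, 0, 0, 0, 0, -1, -1]]),
    (3, ![![2, 2, 3, 4, 3, 2, 1], ![0, 0, 0, 1, 1, 0, 0], ![-1, -2, -3, -4, -3, -2, -1], ![0, 0, 1, 0, 0, 0, 0], ![0, 1, 0, 1, 1, 1, 0], ![0, 0, 0, 0, 0, 0, 1], ![0, 0, 0, 0, -1, -1, -1]]),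
    (2, ![![2, 2, 3, 4, 3, 2, 1], ![0, 0, 0, 0, 1, 0, 0], ![-1, -2, -3, -4, -3, -2, -1], ![0, 0, 1, 1, 0, 0, 0], ![0, 1, 0, 1, 1, 1, 0], ![0, 0, 0, 0, 0, 0, 1], ![0, 0, 0, -1, -1, -1, -1]]),
    (0, ![![2, 2, 3, 4, 3, 2, 1], ![0, 0, 0, 0, 1, 0, 0], ![-1, -2, -2, -4, -3, -2, -1], ![0, 0, 0, 1, 0, 0, 0], ![0, 1, 1, 1, 1, 1, 0], ![0, 0, 0, 0, 0, 0, 1], ![0, 0, -1, -1, -1, -1, -1]]),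
    (5, ![![1, 2, 3, 4, 3, 2, 1], ![0, 0, 0, 0, 1, 0, 0], ![-1, -2, -2, -4, -3, -2, -1], ![0, 0, 0, 1, 0, 0, 0], ![1, 1, 1, 1, 1, 1, 0], ![0, 0, 0, 0, 0, 0, 1], ![-1, 0, -1, -1, -1, -1, -1]]),
    (4, ![![1, 2, 3, 4, 3, 2, 1], ![0, 0, 0, 0, 1, 1, 0], ![-1, -2, -2, -4, -3, -2, -1], ![0, 0, 0, 1, 0, 0, 0], ![1, 1, 1, 1, 1, 0, 0], ![0, 0, 0, 0, 0, 1, 1], ![-1, 0, -1, -1, -1, -1, -1]]),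
    (3, ![![1, 2, 3, 4, 3, 2, 1], ![0, 0, 0, 0, 0, 1, 0], ![-1, -2, -2, -4, -3, -2, -1], ![0, 0, 0, 1, 1, 0, 0], ![1, 1, 1, 1, 0, 0, 0], ![0, 0, 0, 0, 1, 1, 1], ![-1, 0, -1, -1, -1, -1, -1]]),
    (1, ![![1, 2, 3, 4, 3, 2, 1], ![0, 0, 0, 0, 0, 1, 0], ![-1, -2, -2, -3, -3, -2, -1], ![0, 0, 0, 0, 1, 0, 0], ![1, 1, 1, 1, 0, 0, 0], ![0, 0, 0, 1, 1, 1, 1], ![-1, 0, -1, -1, -1, -1, -1]]),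
    (2, ![![1, 2, 3, 4, 3, 2, 1], ![0, 0, 0, 0, 0, 1, 0], ![-1, -1, -2, -3, -3, -2, -1], ![0, 0, 0, 0, 1, 0, 0], ![1, 0, 1, 1, 0, 0, 0], ![0, 1, 0, 1, 1, 1, 1], ![-1, -1, -1, -1, -1, -1, -1]]),
    (0, ![![1, 2, 2, 4, 3, 2, 1], ![0, 0, 0, 0, 0, 1, 0], ![-1, -1, -2, -3, -3, -2, -1], ![0, 0, 0, 0, 1, 0, 0], ![1, 0, 1, 1, 0, 0, 0], ![0, 1, 1, 1, 1, 1, 1], ![-1, -1, -1, -1, -1, -1, -1]]),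
    (3, ![![1, 2, 2, 4, 3, 2, 1], ![0, 0, 0, 0, 0, 1, 0], ![-1, -1, -2, -3, -3, -2, -1], ![0, 0, 0, 0, 1, 0, 0], ![0, 0, 1, 1, 0, 0, 0], ![1, 1, 1, 1, 1, 1, 1], ![0, -1, -1, -1, -1, -1, -1]]),
    (4, ![![1, 2, 2, 3, 3, 2, 1], ![0, 0, 0, 0, 0, 1, 0], ![-1, -1, -2, -3, -3, -2, -1], ![0, 0, 0, 1, 1, 0, 0], ![0, 0, 1, 0, 0, 0, 0], ![1, 1, 1, 2, 1, 1, 1], ![0, -1, -1, -2, -1, -1, -1]]),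
    (5, ![![1, 2, 2, 3, 2, 2, 1], ![0, 0, 0, 0, 1, 1, 0], ![-1, -1, -2, -3, -2, -2, -1], ![0, 0, 0, 1, 0, 0, 0], ![0, 0, 1, 0, 0, 0, 0], ![1, 1, 1, 2, 2, 1, 1], ![0, -1, -1, -2, -2, -1, -1]]),
    (6, ![![1, 2, 2, 3, 2, 1, 1], ![0, 0, 0, 0, 1, 0, 0], ![-1, -1, -2, -3, -2, -1, -1], ![0, 0, 0, 1, 0, 0, 0], ![0, 0, 1, 0, 0, 0, 0], ![1, 1, 1, 2, 2, 2, 1], ![0, -1, -1, -2, -2, -2, -1]]),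
    (5, ![![1, 2, 2, 3, 2, 1, 0], ![0, 0, 0, 0, 1, 0, 0], ![-1, -1, -2, -3, -2, -1, 0], ![0, 0, 0, 1, 0, 0, 0], ![0, 0, 1, 0, 0, 0, 0], ![1, 1, 1, 2, 2, 2, 1], ![0, -1, -1, -2, -2, -2, -1]]),
    (4, ![![1, 2, 2, 3, 2, 1, 0], ![0, 0, 0, 0, 1, 1, 0], ![-1, -1, -2, -3, -2, -1, 0], ![0, 0, 0, 1, 0, 0, 0], ![0, 0, 1, 0, 0, 0, 0], ![1, 1, 1, 2, 2, 1, 1], ![0, -1, -1, -2, -2, -1, -1]]),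
    (3, ![![1, 2, 2, 3, 2, 1, 0], ![0, 0, 0, 0, 0, 1, 0], ![-1, -1, -2, -3, -2, -1, 0], ![0, 0, 0, 1, 1, 0, 0], ![0, 0, 1, 0, 0, 0, 0], ![1, 1, 1, 2, 1, 1, 1], ![0, -1, -1, -2, -1, -1, -1]]),
    (1, ![![1, 2, 2, 3, 2, 1, 0], ![0, 0, 0, 0, 0, 1, 0], ![-1, -1, -2, -2, -2, -1, 0], ![0, 0, 0, 0, 1, 0, 0], ![0, 0, 1, 1, 0, 0, 0], ![1, 1, 1, 1, 1, 1, 1], ![0, -1, -1, -1, -1, -1, -1]]),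
    (2, ![![1, 1, 2, 3, 2, 1, 0], ![0, 0, 0, 0, 0, 1, 0], ![-1, -1, -2, -2, -2, -1, 0], ![0, 0, 0, 0, 1, 0, 0], ![0, 1, 1, 1, 0, 0, 0], ![1, 0, 1, 1, 1, 1, 1], ![0, 0, -1, -1, -1, -1, -1]]),
    (0, ![![1, 1, 2, 3, 2, 1, 0], ![0, 0, 0, 0, 0, 1, 0], ![-1, -1, -1, -2, -2, -1, 0], ![0, 0, 0, 0, 1, 0, 0], ![0, 1, 0, 1, 0, 0, 0], ![1, 0, 1, 1, 1, 1, 1], ![0, 0, 0, -1, -1, -1, -1]]),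
    (3, ![![1, 1, 2, 3, 2, 1, 0], ![0, 0, 0, 0, 0, 1, 0], ![0, -1, -1, -2, -2, -1, 0], ![0, 0, 0, 0, 1, 0, 0], ![0, 1, 0, 1, 0, 0, 0], ![0, 0, 1, 1, 1, 1, 1], ![0, 0, 0, -1, -1, -1, -1]]),
    (2, ![![1, 1, 2, 2, 2, 1, 0], ![0, 0, 0, 0, 0, 1, 0], ![0, -1, -1, -2, -2, -1, 0], ![0, 0, 0, 1, 1, 0, 0], ![0, 1, 0, 0, 0, 0, 0], ![0, 0, 1, 1, 1, 1, 1], ![0, 0, 0, 0, -1, -1, -1]]),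
    (4, ![![1, 1, 1, 2, 2, 1, 0], ![0, 0, 0, 0, 0, 1, 0], ![0, -1, -1, -2, -2, -1, 0], ![0, 0, 1, 1, 1, 0, 0], ![0, 1, 0, 0, 0, 0, 0], ![0, 0, 0, 1, 1, 1, 1], ![0, 0, 0, 0, -1, -1, -1]]),
    (3, ![![1, 1, 1, 2, 1, 1, 0], ![0, 0, 0, 0, 1, 1, 0], ![0, -1, -1, -2, -1, -1, 0], ![0, 0, 1, 1, 0, 0, 0], ![0, 1, 0, 0, 0, 0, 0], ![0, 0, 0, 1, 1, 1, 1], ![0, 0, 0, 0, 0, -1, -1]]),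
    (1, ![![1, 1, 1, 1, 1, 1, 0], ![0, 0, 0, 1, 1, 1, 0], ![0, -1, -1, -1, -1, -1, 0], ![0, 0, 1, 0, 0, 0, 0], ![0, 1, 0, 1, 0, 0, 0], ![0, 0, 0, 0, 1, 1, 1], ![0, 0, 0, 0, 0, -1, -1]]),
    (5, ![![1, 0, 1, 1, 1, 1, 0], ![0, 1, 0, 1, 1, 1, 0], ![0, 0, -1, -1, -1, -1, 0], ![0, 0, 1, 0, 0, 0, 0], ![0, 0, 0, 1, 0, 0, 0], ![0, 0, 0, 0, 1, 1, 1], ![0, 0, 0, 0, 0, -1, -1]]),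
    (4, ![![1, 0, 1, 1, 1, 0, 0], ![0, 1, 0, 1, 1, 0, 0], ![0, 0, -1, -1, -1, 0, 0], ![0, 0, 1, 0, 0, 0, 0], ![0, 0, 0, 1, 0, 0, 0], ![0, 0, 0, 0, 1, 1, 1], ![0, 0, 0, 0, 0, 0, -1]]),
    (3, ![![1, 0, 1, 1, 0, 0, 0], ![0, 1, 0, 1, 0, 0, 0], ![0, 0, -1, -1, 0, 0, 0], ![0, 0, 1, 0, 0, 0, 0], ![0, 0, 0, 1, 1, 0, 0], ![0, 0, 0, 0, 0, 1, 1], ![0, 0, 0, 0, 0, 0, -1]]),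
    (2, ![![1, 0, 1, 0, 0, 0, 0], ![0, 1, 0, 0, 0, 0, 0], ![0, 0, -1, 0, 0, 0, 0], ![0, 0, 1, 1, 0, 0, 0], ![0, 0, 0, 0, 1, 0, 0], ![0, 0, 0, 0, 0, 1, 1], ![0, 0, 0, 0, 0, 0, -1]]),
    (6, ![![1, 0, 0, 0, 0, 0, 0], ![0, 1, 0, 0, 0, 0, 0], ![0, 0, 1, 0, 0, 0, 0], ![0, 0, 0, 1, 0, 0, 0], ![0, 0, 0, 0, 1, 0, 0], ![0, 0, 0, 0, 0, 1, 1], ![0, 0, 0, 0, 0, 0, -1]])]

/-- the negative of `w3` -/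
def w6 : List (Fin 7 × Mat 7) := [
    (2, ![![-1, -2, -3, -4, -3, -2, -1], ![0, 0, 0, -1, 0, 0, 0], ![1, 1, 2, 3, 3, 2, 1], ![0, 1, 0, 1, 0, 0, 0], ![0, -1, 0, -1, -1, -1, 0], ![0, 0, 0, 0, 0, 0, -1], ![0, 0, 0, 0, 0, 1, 1]]),
    (3, ![![-1, -2, -2, -4, -3, -2, -1], ![0, 0, -1, -1, 0, 0, 0], ![1, 1, 2, 3, 3, 2, 1], ![0, 1, 1, 1, 0, 0, 0], ![0, -1, -1, -1, -1, -1, 0], ![0, 0, 0, 0, 0, 0, -1], ![0, 0, 0, 0, 0, 1, 1]]),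
    (1, ![![-1, -2, -2, -3, -3, -2, -1], ![0, 0, -1, 0, 0, 0, 0], ![1, 1, 2, 3, 3, 2, 1], ![0, 1, 1, 1, 0, 0, 0], ![0, -1, -1, -2, -1, -1, 0], ![0, 0, 0, 0, 0, 0, -1], ![0, 0, 0, 0, 0, 1, 1]]),
    (2, ![![-1, -1, -2, -3, -3, -2, -1], ![0, 0, -1, 0, 0, 0, 0], ![1, 2, 2, 3, 3, 2, 1], ![0, 0, 1, 1, 0, 0, 0], ![0, -1, -1, -2, -1, -1, 0], ![0, 0, 0, 0, 0, 0, -1], ![0, 0, 0, 0, 0, 1, 1]]),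
    (4, ![![-1, -1, -2, -3, -3, -2, -1], ![0, 0, 1, 0, 0, 0, 0], ![1, 2, 2, 3, 3, 2, 1], ![0, 0, 0, 1, 0, 0, 0], ![0, -1, -1, -2, -1, -1, 0], ![0, 0, 0, 0, 0, 0, -1], ![0, 0, 0, 0, 0, 1, 1]]),
    (3, ![![-1, -1, -2, -3, -2, -2, -1], ![0, 0, 1, 0, 0, 0, 0], ![1, 2, 2, 3, 2, 2, 1], ![0, 0, 0, 1, 1, 0, 0], ![0, -1, -1, -2, -2, -1, 0], ![0, 0, 0, 0, 0, 0, -1], ![0, 0, 0, 0, 1, 1, 1]]),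
    (1, ![![-1, -1, -2, -2, -2, -2, -1], ![0, 0, 1, 1, 0, 0, 0], ![1, 2, 2, 3, 2, 2, 1], ![0, 0, 0, 0, 1, 0, 0], ![0, -1, -1, -2, -2, -1, 0], ![0, 0, 0, 0, 0, 0, -1], ![0, 0, 0, 1, 1, 1, 1]]),
    (2, ![![-1, -1, -2, -2, -2, -2, -1], ![0, 1, 1, 1, 0, 0, 0], ![1, 1, 2, 3, 2, 2, 1], ![0, 0, 0, 0, 1, 0, 0], ![0, -1, -1, -2, -2, -1, 0], ![0, 0, 0, 0, 0, 0, -1], ![0, 1, 0, 1, 1, 1, 1]]),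
    (3, ![![-1, -1, -1, -2, -2, -2, -1], ![0, 1, 0, 1, 0, 0, 0], ![1, 1, 2, 3, 2, 2, 1], ![0, 0, 0, 0, 1, 0, 0], ![0, -1, -1, -2, -2, -1, 0], ![0, 0, 0, 0, 0, 0, -1], ![0, 1, 1, 1, 1, 1, 1]]),
    (4, ![![-1, -1, -1, -2, -2, -2, -1], ![0, 1, 0, 0, 0, 0, 0], ![1, 1, 2, 2, 2, 2, 1], ![0, 0, 0, 1, 1, 0, 0], ![0, -1, -1, -2, -2, -1, 0], ![0, 0, 0, 0, 0, 0, -1], ![0, 1, 1, 2, 1, 1, 1]]),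
    (5, ![![-1, -1, -1, -2, -2, -2, -1], ![0, 1, 0, 0, 0, 0, 0], ![1, 1, 2, 2, 2, 2, 1], ![0, 0, 0, 1, 0, 0, 0], ![0, -1, -1, -2, -1, -1, 0], ![0, 0, 0, 0, 0, 0, -1], ![0, 1, 1, 2, 2, 1, 1]]),
    (4, ![![-1, -1, -1, -2, -2, -1, -1], ![0, 1, 0, 0, 0, 0, 0], ![1, 1, 2, 2, 2, 1, 1], ![0, 0, 0, 1, 0, 0, 0], ![0, -1, -1, -2, -1, 0, 0], ![0, 0, 0, 0, 0, -1, -1], ![0, 1, 1, 2, 2, 2, 1]]),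
    (3, ![![-1, -1, -1, -2, -1, -1, -1], ![0, 1, 0, 0, 0, 0, 0], ![1, 1, 2, 2, 1, 1, 1], ![0, 0, 0, 1, 1, 0, 0], ![0, -1, -1, -2, -1, 0, 0], ![0, 0, 0, 0, -1, -1, -1], ![0, 1, 1, 2, 2, 2, 1]]),
    (1, ![![-1, -1, -1, -1, -1, -1, -1], ![0, 1, 0, 1, 0, 0, 0], ![1, 1, 2, 2, 1, 1, 1], ![0, 0, 0, 0, 1, 0, 0], ![0, -1, -1, -1, -1, 0, 0], ![0, 0, 0, -1, -1, -1, -1], ![0, 1, 1, 2, 2, 2, 1]]),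
    (2, ![![-1, 0, -1, -1, -1, -1, -1], ![0, 0, 0, 1, 0, 0, 0], ![1, 1, 2, 2, 1, 1, 1], ![0, 0, 0, 0, 1, 0, 0], ![0, 0, -1, -1, -1, 0, 0], ![0, -1, 0, -1, -1, -1, -1], ![0, 1, 1, 2, 2, 2, 1]]),
    (3, ![![-1, 0, -1, -1, -1, -1, -1], ![0, 0, 1, 1, 0, 0, 0], ![1, 1, 1, 2, 1, 1, 1], ![0, 0, 0, 0, 1, 0, 0], ![0, 0, 0, -1, -1, 0, 0], ![0, -1, -1, -1, -1, -1, -1], ![0, 1, 1, 2, 2, 2, 1]]),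
    (4, ![![-1, 0, -1, -1, -1, -1, -1], ![0, 0, 1, 0, 0, 0, 0], ![1, 1, 1, 1, 1, 1, 1], ![0, 0, 0, 1, 1, 0, 0], ![0, 0, 0, 0, -1, 0, 0], ![0, -1, -1, -2, -1, -1, -1], ![0, 1, 1, 2, 2, 2, 1]]),
    (6, ![![-1, 0, -1, -1, -1, -1, -1], ![0, 0, 1, 0, 0, 0, 0], ![1, 1, 1, 1, 1, 1, 1], ![0, 0, 0, 1, 0, 0, 0], ![0, 0, 0, 0, 1, 0, 0], ![0, -1, -1, -2, -2, -1, -1], ![0, 1, 1, 2, 2, 2, 1]]),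
    (5, ![![-1, 0, -1, -1, -1, -1, 0], ![0, 0, 1, 0, 0, 0, 0], ![1, 1, 1, 1, 1, 1, 0], ![0, 0, 0, 1, 0, 0, 0], ![0, 0, 0, 0, 1, 0, 0], ![0, -1, -1, -2, -2, -1, 0], ![0, 1, 1, 2, 2, 2, 1]]),
    (4, ![![-1, 0, -1, -1, -1, 0, 0], ![0, 0, 1, 0, 0, 0, 0], ![1, 1, 1, 1, 1, 0, 0], ![0, 0, 0, 1, 0, 0, 0], ![0, 0, 0, 0, 1, 1, 0], ![0, -1, -1, -2, -2, -1, 0], ![0, 1, 1, 2, 2, 1, 1]]),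
    (3, ![![-1, 0, -1, -1, 0, 0, 0], ![0, 0, 1, 0, 0, 0, 0], ![1, 1, 1, 1, 0, 0, 0], ![0, 0, 0, 1, 1, 0, 0], ![0, 0, 0, 0, 0, 1, 0], ![0, -1, -1, -2, -1, -1, 0], ![0, 1, 1, 2, 1, 1, 1]]),
    (1, ![![-1, 0, -1, 0, 0, 0, 0], ![0, 0, 1, 1, 0, 0, 0], ![1, 1, 1, 1, 0, 0, 0], ![0, 0, 0, 0, 1, 0, 0], ![0, 0, 0, 0, 0, 1, 0], ![0, -1, -1, -1, -1, -1, 0], ![0, 1, 1, 1, 1, 1, 1]]),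
    (2, ![![-1, 0, -1, 0, 0, 0, 0], ![0, 1, 1, 1, 0, 0, 0], ![1, 0, 1, 1, 0, 0, 0], ![0, 0, 0, 0, 1, 0, 0], ![0, 0, 0, 0, 0, 1, 0], ![0, 0, -1, -1, -1, -1, 0], ![0, 0, 1, 1, 1, 1, 1]]),
    (0, ![![-1, 0, 0, 0, 0, 0, 0], ![0, 1, 0, 1, 0, 0, 0], ![1, 0, 1, 1, 0, 0, 0], ![0, 0, 0, 0, 1, 0, 0], ![0, 0, 0, 0, 0, 1, 0], ![0, 0, 0, -1, -1, -1, 0], ![0, 0, 0, 1, 1, 1, 1]]),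
    (3, ![![1, 0, 0, 0, 0, 0, 0], ![0, 1, 0, 1, 0, 0, 0], ![0, 0, 1, 1, 0, 0, 0], ![0, 0, 0, 0, 1, 0, 0], ![0, 0, 0, 0, 0, 1, 0], ![0, 0, 0, -1, -1, -1, 0], ![0, 0, 0, 1, 1, 1, 1]]),
    (4, ![![1, 0, 0, 0, 0, 0, 0], ![0, 1, 0, 0, 0, 0, 0], ![0, 0, 1, 0, 0, 0, 0], ![0, 0, 0, 1, 1, 0, 0], ![0, 0, 0, 0, 0, 1, 0], ![0, 0, 0, 0, -1, -1, 0], ![0, 0, 0, 0, 1, 1, 1]]),
    (5, ![![1, 0, 0, 0, 0, 0, 0], ![0, 1, 0, 0, 0, 0, 0], ![0, 0, 1, 0, 0, 0, 0], ![0, 0, 0, 1, 0, 0, 0], ![0, 0, 0, 0, 1, 1, 0], ![0, 0, 0, 0, 0, -1, 0], ![0, 0, 0, 0, 0, 1, 1]])]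

/-- type `2 A₃` -/
def w4 : List (Fin 7 × Mat 7) := [
    (0, ![![0, 0, 1, 0, 0, 0, 0], ![0, 1, 0, 0, 0, 0, 0], ![1, 2, 2, 4, 3, 2, 1], ![-1, -2, -2, -3, -2, -2, -1], ![0, 0, 0, 0, 0, 1, 0], ![0, 0, 0, 0, 0, 0, 1], ![0, 0, 0, 0, -1, -1, -1]]),
    (2, ![![1, 0, 1, 0, 0, 0, 0], ![0, 1, 0, 0, 0, 0, 0], ![1, 2, 2, 4, 3, 2, 1], ![-1, -2, -2, -3, -2, -2, -1], ![0, 0, 0, 0, 0, 1, 0], ![0, 0, 0, 0, 0, 0, 1], ![0, 0, 0, 0, -1, -1, -1]]),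
    (3, ![![1, 0, 0, 0, 0, 0, 0], ![0, 1, 0, 0, 0, 0, 0], ![1, 2, 3, 4, 3, 2, 1], ![-1, -2, -2, -3, -2, -2, -1], ![0, 0, 0, 0, 0, 1, 0], ![0, 0, 0, 0, 0, 0, 1], ![0, 0, 0, 0, -1, -1, -1]]),
    (1, ![![1, 0, 0, 0, 0, 0, 0], ![0, 1, 0, 1, 0, 0, 0], ![1, 2, 3, 4, 3, 2, 1], ![-1, -2, -2, -3, -2, -2, -1], ![0, 0, 0, 0, 0, 1, 0], ![0, 0, 0, 0, 0, 0, 1], ![0, 0, 0, -1, -1, -1, -1]]),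
    (4, ![![1, 0, 0, 0, 0, 0, 0], ![0, 0, 0, 1, 0, 0, 0], ![1, 2, 3, 4, 3, 2, 1], ![-1, -1, -2, -3, -2, -2, -1], ![0, 0, 0, 0, 0, 1, 0], ![0, 0, 0, 0, 0, 0, 1], ![0, -1, 0, -1, -1, -1, -1]]),
    (3, ![![1, 0, 0, 0, 0, 0, 0], ![0, 0, 0, 1, 1, 0, 0], ![1, 2, 3, 4, 3, 2, 1], ![-1, -1, -2, -3, -3, -2, -1], ![0, 0, 0, 0, 1, 1, 0], ![0, 0, 0, 0, 0, 0, 1], ![0, -1, 0, -1, -1, -1, -1]]),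
    (1, ![![1, 0, 0, 0, 0, 0, 0], ![0, 0, 0, 0, 1, 0, 0], ![1, 2, 3, 4, 3, 2, 1], ![-1, -1, -2, -3, -3, -2, -1], ![0, 0, 0, 1, 1, 1, 0], ![0, 0, 0, 0, 0, 0, 1], ![0, -1, 0, -1, -1, -1, -1]]),
    (2, ![![1, 0, 0, 0, 0, 0, 0], ![0, 0, 0, 0, 1, 0, 0], ![1, 2, 3, 4, 3, 2, 1], ![-1, -2, -2, -3, -3, -2, -1], ![0, 1, 0, 1, 1, 1, 0], ![0, 0, 0, 0, 0, 0, 1], ![0, 0, 0, -1, -1, -1, -1]]),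
    (0, ![![1, 0, 1, 0, 0, 0, 0], ![0, 0, 0, 0, 1, 0, 0], ![1, 2, 2, 4, 3, 2, 1], ![-1, -2, -2, -3, -3, -2, -1], ![0, 1, 1, 1, 1, 1, 0], ![0, 0, 0, 0, 0, 0, 1], ![0, 0, -1, -1, -1, -1, -1]]),
    (5, ![![0, 0, 1, 0, 0, 0, 0], ![0, 0, 0, 0, 1, 0, 0], ![1, 2, 2, 4, 3, 2, 1], ![-1, -2, -2, -3, -3, -2, -1], ![1, 1, 1, 1, 1, 1, 0], ![0, 0, 0, 0, 0, 0, 1], ![-1, 0, -1, -1, -1, -1, -1]]),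
    (4, ![![0, 0, 1, 0, 0, 0, 0], ![0, 0, 0, 0, 1, 1, 0], ![1, 2, 2, 4, 3, 2, 1], ![-1, -2, -2, -3, -3, -2, -1], ![1, 1, 1, 1, 1, 0, 0], ![0, 0, 0, 0, 0, 1, 1], ![-1, 0, -1, -1, -1, -1, -1]]),
    (3, ![![0, 0, 1, 0, 0, 0, 0], ![0, 0, 0, 0, 0, 1, 0], ![1, 2, 2, 4, 3, 2, 1], ![-1, -2, -2, -3, -2, -2, -1], ![1, 1, 1, 1, 0, 0, 0], ![0, 0, 0, 0, 1, 1, 1], ![-1, 0, -1, -1, -1, -1, -1]]),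
    (1, ![![0, 0, 1, 1, 0, 0, 0], ![0, 0, 0, 0, 0, 1, 0], ![1, 2, 2, 3, 3, 2, 1], ![-1, -2, -2, -3, -2, -2, -1], ![1, 1, 1, 1, 0, 0, 0], ![0, 0, 0, 1, 1, 1, 1], ![-1, 0, -1, -1, -1, -1, -1]]),
    (2, ![![0, 1, 1, 1, 0, 0, 0], ![0, 0, 0, 0, 0, 1, 0], ![1, 1, 2, 3, 3, 2, 1], ![-1, -1, -2, -3, -2, -2, -1], ![1, 0, 1, 1, 0, 0, 0], ![0, 1, 0, 1, 1, 1, 1], ![-1, -1, -1, -1, -1, -1, -1]]),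
    (0, ![![0, 1, 0, 1, 0, 0, 0], ![0, 0, 0, 0, 0, 1, 0], ![1, 1, 2, 3, 3, 2, 1], ![-1, -1, -2, -3, -2, -2, -1], ![1, 0, 1, 1, 0, 0, 0], ![0, 1, 1, 1, 1, 1, 1], ![-1, -1, -1, -1, -1, -1, -1]]),
    (3, ![![0, 1, 0, 1, 0, 0, 0], ![0, 0, 0, 0, 0, 1, 0], ![1, 1, 2, 3, 3, 2, 1], ![-1, -1, -2, -3, -2, -2, -1], ![0, 0, 1, 1, 0, 0, 0], ![1, 1, 1, 1, 1, 1, 1], ![0, -1, -1, -1, -1, -1, -1]]),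
    (4, ![![0, 1, 0, 0, 0, 0, 0], ![0, 0, 0, 0, 0, 1, 0], ![1, 1, 2, 3, 3, 2, 1], ![-1, -1, -2, -2, -2, -2, -1], ![0, 0, 1, 0, 0, 0, 0], ![1, 1, 1, 2, 1, 1, 1], ![0, -1, -1, -2, -1, -1, -1]]),
    (5, ![![0, 1, 0, 0, 0, 0, 0], ![0, 0, 0, 0, 1, 1, 0], ![1, 1, 2, 3, 2, 2, 1], ![-1, -1, -2, -2, -2, -2, -1], ![0, 0, 1, 0, 0, 0, 0], ![1, 1, 1, 2, 2, 1, 1], ![0, -1, -1, -2, -2, -1, -1]]),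
    (6, ![![0, 1, 0, 0, 0, 0, 0], ![0, 0, 0, 0, 1, 0, 0], ![1, 1, 2, 3, 2, 1, 1], ![-1, -1, -2, -2, -2, -1, -1], ![0, 0, 1, 0, 0, 0, 0], ![1, 1, 1, 2, 2, 2, 1], ![0, -1, -1, -2, -2, -2, -1]]),
    (5, ![![0, 1, 0, 0, 0, 0, 0], ![0, 0, 0, 0, 1, 0, 0], ![1, 1, 2, 3, 2, 1, 0], ![-1, -1, -2, -2, -2, -1, 0], ![0, 0, 1, 0, 0, 0, 0], ![1, 1, 1, 2, 2, 2, 1], ![0, -1, -1, -2, -2, -2, -1]]),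
    (4, ![![0, 1, 0, 0, 0, 0, 0], ![0, 0, 0, 0, 1, 1, 0], ![1, 1, 2, 3, 2, 1, 0], ![-1, -1, -2, -2, -2, -1, 0], ![0, 0, 1, 0, 0, 0, 0], ![1, 1, 1, 2, 2, 1, 1], ![0, -1, -1, -2, -2, -1, -1]]),
    (3, ![![0, 1, 0, 0, 0, 0, 0], ![0, 0, 0, 0, 0, 1, 0], ![1, 1, 2, 3, 2, 1, 0], ![-1, -1, -2, -2, -1, -1, 0], ![0, 0, 1, 0, 0, 0, 0], ![1, 1, 1, 2, 1, 1, 1], ![0, -1, -1, -2, -1, -1, -1]]),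
    (1, ![![0, 1, 0, 1, 0, 0, 0], ![0, 0, 0, 0, 0, 1, 0], ![1, 1, 2, 2, 2, 1, 0], ![-1, -1, -2, -2, -1, -1, 0], ![0, 0, 1, 1, 0, 0, 0], ![1, 1, 1, 1, 1, 1, 1], ![0, -1, -1, -1, -1, -1, -1]]),
    (2, ![![0, 0, 0, 1, 0, 0, 0], ![0, 0, 0, 0, 0, 1, 0], ![1, 1, 2, 2, 2, 1, 0], ![-1, -1, -2, -2, -1, -1, 0], ![0, 1, 1, 1, 0, 0, 0], ![1, 0, 1, 1, 1, 1, 1], ![0, 0, -1, -1, -1, -1, -1]]),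
    (0, ![![0, 0, 1, 1, 0, 0, 0], ![0, 0, 0, 0, 0, 1, 0], ![1, 1, 1, 2, 2, 1, 0], ![-1, -1, -1, -2, -1, -1, 0], ![0, 1, 0, 1, 0, 0, 0], ![1, 0, 1, 1, 1, 1, 1], ![0, 0, 0, -1, -1, -1, -1]]),
    (3, ![![1, 0, 1, 1, 0, 0, 0], ![0, 0, 0, 0, 0, 1, 0], ![0, 1, 1, 2, 2, 1, 0], ![0, -1, -1, -2, -1, -1, 0], ![0, 1, 0, 1, 0, 0, 0], ![0, 0, 1, 1, 1, 1, 1], ![0, 0, 0, -1, -1, -1, -1]]),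
    (2, ![![1, 0, 1, 0, 0, 0, 0], ![0, 0, 0, 0, 0, 1, 0], ![0, 1, 1, 2, 2, 1, 0], ![0, -1, -1, -1, -1, -1, 0], ![0, 1, 0, 0, 0, 0, 0], ![0, 0, 1, 1, 1, 1, 1], ![0, 0, 0, 0, -1, -1, -1]]),
    (4, ![![1, 0, 0, 0, 0, 0, 0], ![0, 0, 0, 0, 0, 1, 0], ![0, 1, 1, 2, 2, 1, 0], ![0, -1, 0, -1, -1, -1, 0], ![0, 1, 0, 0, 0, 0, 0], ![0, 0, 0, 1, 1, 1, 1], ![0, 0, 0, 0, -1, -1, -1]]),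
    (3, ![![1, 0, 0, 0, 0, 0, 0], ![0, 0, 0, 0, 1, 1, 0], ![0, 1, 1, 2, 1, 1, 0], ![0, -1, 0, -1, -1, -1, 0], ![0, 1, 0, 0, 0, 0, 0], ![0, 0, 0, 1, 1, 1, 1], ![0, 0, 0, 0, 0, -1, -1]]),
    (1, ![![1, 0, 0, 0, 0, 0, 0], ![0, 0, 0, 1, 1, 1, 0], ![0, 1, 1, 1, 1, 1, 0], ![0, -1, 0, -1, -1, -1, 0], ![0, 1, 0, 1, 0, 0, 0], ![0, 0, 0, 0, 1, 1, 1], ![0, 0, 0, 0, 0, -1, -1]]),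
    (5, ![![1, 0, 0, 0, 0, 0, 0], ![0, 1, 0, 1, 1, 1, 0], ![0, 0, 1, 1, 1, 1, 0], ![0, 0, 0, -1, -1, -1, 0], ![0, 0, 0, 1, 0, 0, 0], ![0, 0, 0, 0, 1, 1, 1], ![0, 0, 0, 0, 0, -1, -1]]),
    (4, ![![1, 0, 0, 0, 0, 0, 0], ![0, 1, 0, 1, 1, 0, 0], ![0, 0, 1, 1, 1, 0, 0], ![0, 0, 0, -1, -1, 0, 0], ![0, 0, 0, 1, 0, 0, 0], ![0, 0, 0, 0, 1, 1, 1], ![0, 0, 0, 0, 0, 0, -1]]),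
    (3, ![![1, 0, 0, 0, 0, 0, 0], ![0, 1, 0, 1, 0, 0, 0], ![0, 0, 1, 1, 0, 0, 0], ![0, 0, 0, -1, 0, 0, 0], ![0, 0, 0, 1, 1, 0, 0], ![0, 0, 0, 0, 0, 1, 1], ![0, 0, 0, 0, 0, 0, -1]]),
    (6, ![![1, 0, 0, 0, 0, 0, 0], ![0, 1, 0, 0, 0, 0, 0], ![0, 0, 1, 0, 0, 0, 0], ![0, 0, 0, 1, 0, 0, 0], ![0, 0, 0, 0, 1, 0, 0], ![0, 0, 0, 0, 0, 1, 1], ![0, 0, 0, 0, 0, 0, -1]])]

/-- the last factor of `w3` -/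
def v3 : List (Fin 7 × Mat 7) := [
    (5, ![![1, 0, 0, 0, 0, 0, 0], ![0, 1, 0, 0, 0, 0, 0], ![0, 0, 1, 0, 0, 0, 0], ![0, 0, 0, 1, 0, 0, 0], ![0, 0, 0, 0, 1, 1, 0], ![0, 0, 0, 0, 0, 0, 1], ![0, 0, 0, 0, 0, -1, -1]]),
    (6, ![![1, 0, 0, 0, 0, 0, 0], ![0, 1, 0, 0, 0, 0, 0], ![0, 0, 1, 0, 0, 0, 0], ![0, 0, 0, 1, 0, 0, 0], ![0, 0, 0, 0, 1, 0, 0], ![0, 0, 0, 0, 0, 1, 1], ![0, 0, 0, 0, 0, 0, -1]])]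

/-- the last factor of `w4` -/
def v4 : List (Fin 7 × Mat 7) := [
    (4, ![![1, 0, 0, 0, 0, 0, 0], ![0, 1, 0, 0, 0, 0, 0], ![0, 0, 1, 0, 0, 0, 0], ![0, 0, 0, 1, 1, 0, 0], ![0, 0, 0, 0, 0, 1, 0], ![0, 0, 0, 0, 0, 0, 1], ![0, 0, 0, 0, -1, -1, -1]]),
    (5, ![![1, 0, 0, 0, 0, 0, 0], ![0, 1, 0, 0, 0, 0, 0], ![0, 0, 1, 0, 0, 0, 0], ![0, 0, 0, 1, 0, 0, 0], ![0, 0, 0, 0, 1, 1, 0], ![0, 0, 0, 0, 0, 0, 1], ![0, 0, 0, 0, 0, -1, -1]]),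
    (6, ![![1, 0, 0, 0, 0, 0, 0], ![0, 1, 0, 0, 0, 0, 0], ![0, 0, 1, 0, 0, 0, 0], ![0, 0, 0, 1, 0, 0, 0], ![0, 0, 0, 0, 1, 0, 0], ![0, 0, 0, 0, 0, 1, 1], ![0, 0, 0, 0, 0, 0, -1]])]

/-- eigenvectors -/
def a3 : (Fin 7 → ℤ) × (Fin 7 → ℤ) := (![3, 0, -1, 0, 0, 0, 0], ![0, 0, 1, 0, 0, 0, 0])
def b3 : (Fin 7 → ℤ) × (Fin 7 → ℤ) := (![3, 3, -2, 0, -1, 0, 0], ![0, 0, -1, 3, -2, 0, 0])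
def y3 : (Fin 7 → ℤ) × (Fin 7 → ℤ) := (![0, 0, 0, 0, -2, 3, 0], ![0, 0, 0, 0, -1, 0, 3])
def a6 : (Fin 7 → ℤ) × (Fin 7 → ℤ) := (![3, 0, -1, 0, 0, 0, 0], ![0, 0, -1, 0, 0, 0, 0])
def b6 : (Fin 7 → ℤ) × (Fin 7 → ℤ) := (![3, 3, -2, 0, -1, 0, 0], ![0, 0, 1, -3, 2, 0, 0])
def y6 : (Fin 7 → ℤ) × (Fin 7 → ℤ) := (![0, 0, 0, 0, -2, 3, 0], ![0, 0, 0, 0, 1, 0, -3])
def a4 : (Fin 7 → ℤ) × (Fin 7 → ℤ) := (![2, 0, 0, -1, 0, 0, 0], ![0, 0, 2, -1, 0, 0, 0])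
def y4 : (Fin 7 → ℤ) × (Fin 7 → ℤ) := (![0, 0, 0, -1, 0, 2, 0], ![0, 0, 0, 1, -2, 0, 2])

theorem hA : ∀ i j, Am i j = cartanOf chevE7 7 i j := by decide +kernel
theorem w3_ok : ChainOK Am w3 := by decide +kernel
theorem w6_ok : ChainOK Am w6 := by decide +kernel
theorem w4_ok : ChainOK Am w4 := by decide +kernel
theorem v3_ok : ChainOK Am v3 := by decide +kernel
theorem v4_ok : ChainOK Am v4 := by decide +kernel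
theorem comm3 : H210.EL.CommOK (hd v3) (hd w3) := by decide +kernel
theorem comm6 : H210.EL.CommOK (hd v3) (hd w6) := by decide +kernel
theorem comm4 : H210.EL.CommOK (hd v4) (hd w4) := by decide +kernel

theorem a3_w : ActP (hd w3) (-1) (-1) (0, 1) a3 := by decide +kernel
theorem b3_w : ActP (hd w3) (-1) (-1) (0, 1) b3 := by decide +kernel
theorem y3_w : ActP (hd w3) (-1) (-1) (0, 1) y3 := by decide +kernel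
theorem a3_v : ActP (hd v3) (-1) (-1) (1, 0) a3 := by decide +kernel
theorem b3_v : ActP (hd v3) (-1) (-1) (1, 0) b3 := by decide +kernel
theorem y3_v : ActP (hd v3) (-1) (-1) (0, 1) y3 := by decide +kernel
theorem a6_w : ActP (hd w6) (1) (-1) (0, 1) a6 := by decide +kernel
theorem b6_w : ActP (hd w6) (1) (-1) (0, 1) b6 := by decide +kernel
theorem y6_w : ActP (hd w6) (1) (-1) (0, 1) y6 := by decide +kernel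
theorem a6_v : ActP (hd v3) (1) (-1) (1, 0) a6 := by decide +kernel
theorem b6_v : ActP (hd v3) (1) (-1) (1, 0) b6 := by decide +kernel
theorem y6_v : ActP (hd v3) (1) (-1) (0, -1) y6 := by decide +kernel
theorem a4_w : ActP (hd w4) (0) (-1) (0, 1) a4 := by decide +kernel
theorem y4_w : ActP (hd w4) (0) (-1) (0, 1) y4 := by decide +kernel
theorem a4_v : ActP (hd v4) (0) (-1) (1, 0) a4 := by decide +kernel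
theorem y4_v : ActP (hd v4) (0) (-1) (0, 1) y4 := by decide +kernel

theorem a3_p6 : ∑ r ∈ Finset.range chevE7.nroots, pw (-1) (-1) (dt a3 (vec chevE7 7 r)) 6 = (1944, 0) := by
  decide +kernel
theorem b3_p6 : ∑ r ∈ Finset.range chevE7.nroots, pw (-1) (-1) (dt b3 (vec chevE7 7 r)) 6 = (23328, 0) := by
  decide +kernel
theorem a6_p6 : ∑ r ∈ Finset.range chevE7.nroots, pw (1) (-1) (dt a6 (vec chevE7 7 r)) 6 = (1944, 0) := by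
  decide +kernel
theorem b6_p6 : ∑ r ∈ Finset.range chevE7.nroots, pw (1) (-1) (dt b6 (vec chevE7 7 r)) 6 = (23328, 0) := by
  decide +kernel
theorem a4_p8 : ∑ r ∈ Finset.range chevE7.nroots, pw (0) (-1) (dt a4 (vec chevE7 7 r)) 8 = (25600, 0) := by
  decide +kernel
theorem a4_p12 : ∑ r ∈ Finset.range chevE7.nroots, pw (0) (-1) (dt a4 (vec chevE7 7 r)) 12 = (-921600, 0) := by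
  decide +kernel
theorem a3_n : ∀ r ∈ Finset.range chevE7.nroots, dt a3 (vec chevE7 7 r) = 0 ∨ nrm (-1) (-1) (dt a3 (vec chevE7 7 r)) ∣ (36 : ℕ) := by
  decide +kernel
theorem a3_z : (∑ r ∈ Finset.range chevE7.nroots, if dt a3 (vec chevE7 7 r) = 0 then 1 else 0) = 30 := by
  decide +kernel
theorem b3_n : ∀ r ∈ Finset.range chevE7.nroots, dt b3 (vec chevE7 7 r) = 0 ∨ nrm (-1) (-1) (dt b3 (vec chevE7 7 r)) ∣ (36 : ℕ) := by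
  decide +kernel
theorem b3_z : (∑ r ∈ Finset.range chevE7.nroots, if dt b3 (vec chevE7 7 r) = 0 then 1 else 0) = 24 := by
  decide +kernel
theorem a6_n : ∀ r ∈ Finset.range chevE7.nroots, dt a6 (vec chevE7 7 r) = 0 ∨ nrm (1) (-1) (dt a6 (vec chevE7 7 r)) ∣ (36 : ℕ) := by
  decide +kernel
theorem a6_z : (∑ r ∈ Finset.range chevE7.nroots, if dt a6 (vec chevE7 7 r) = 0 then 1 else 0) = 30 := by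
  decide +kernel
theorem b6_n : ∀ r ∈ Finset.range chevE7.nroots, dt b6 (vec chevE7 7 r) = 0 ∨ nrm (1) (-1) (dt b6 (vec chevE7 7 r)) ∣ (36 : ℕ) := by
  decide +kernel
theorem b6_z : (∑ r ∈ Finset.range chevE7.nroots, if dt b6 (vec chevE7 7 r) = 0 then 1 else 0) = 24 := by
  decide +kernel

end Cfsg.Agent.H567.KB.E7
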