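import Cfsg.Agent.H567.KB.LineB
import Cfsg.Agent.H567.KB.E7Data
import Cfsg.Agent.H129.CycT2

/-!
# `E₇(q)`, `ord_p(q) = 3, 6, 4` (S4822, KE4; helper567)

Elements of order `p` with `l(B₀(C(x))) ≥ 2` and few powers conjugate to `x`.
-/

set_option autoImplicit false
set_option linter.unusedSectionVars false

namespace Cfsg.Agent.H567.KB

open CoxeterSystem Cfsg Cfsg.Lie Cfsg.Lie.ChevalleyDatum
open Cfsg.Agent.ChevalleyStructure.CoxeterGeom Cfsg.Agent.ChevalleyStructure.CoxeterGeomTypes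
open Cfsg.Agent.Tits.Roots Cfsg.Agent.Tits.Core Cfsg.Agent.Nodes Cfsg.Agent.Nodes.Reps Cfsg.Agent.Nodes.RGDChev
open Cfsg.Agent.H129.WData Cfsg.Agent.H210.EL Cfsg.Agent.H440.TD4 Cfsg.Agent.H508.KB Cfsg.Agent.H129.TorusChar

universe u

section

variable {D : ChevalleyDatum} {l : ℕ} {M : CoxeterMatrix (Fin l)} {hp : IsType D l M}
variable {p Q d : ℕ} [hpp : Fact p.Prime] {w : M.Group} {S : Type u} [Group S] [Finite S] {X : (Fin l → ZMod p) → S}
  {N : Ideal AlgInt}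

theorem ModelS.congr (H : ModelS hp p Q w d X) {S' : Type*} [Group S'] (e : S ≃* S') :
    ModelS hp p Q w d (fun c => e (X c)) where
  add c hc c' hc' := by
    show e _ = e _ * e _
    rw [H.add c hc c' hc', map_mul]
  inj c hc h := H.inj c hc (e.map_eq_one_iff.1 h)
  pow c hc := by
    show e (X c) ^ p = 1
    rw [← map_pow, H.pow c hc, map_one]
  act v hv := by
    obtain ⟨m, hm⟩ := H.act v hv
    refine ⟨e m, fun c hc => ?_⟩
    show e m * e _ * (e m)⁻¹ = e _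
    rw [← map_inv, ← map_mul, ← map_mul, hm c hc]
  fus c hc c' hc' h hh := by
    refine H.fus c hc c' hc' (e.symm h) (e.injective ?_)
    rw [map_mul, map_mul, map_inv, e.apply_symm_apply]
    exact hh

variable {A : Mat l} {Cw Cv : List (Fin l × Mat l)} {s t : ℤ}

theorem line_of (hM : IsPModular p N) (H : ModelS hp p Q (wo M Cw) d X) (hA : ∀ i j, A i j = cartanOf D l i j)
    (hw : ChainOK A Cw) (hv : ChainOK A Cv) (hcm : CommOK (hd Cv) (hd Cw)) (hq : (Q : ZMod p) ^ 2 = s * Q + t)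
    {c y : (Fin l → ℤ) × (Fin l → ℤ)} (hcw : ActP (hd Cw) s t (0, 1) c) (hyw : ActP (hd Cw) s t (0, 1) y)
    (hcv : ActP (hd Cv) s t (1, 0) c) {m : ℤ × ℤ} (hyv : ActP (hd Cv) s t m y) (hm : ev (Q : ZMod p) m ^ d ≠ 1)
    (hy0 : vecq (Q : ZMod p) y ≠ 0) :
    2 ≤ blockRank p (principalBlock N ↥(Subgroup.centralizer ({X (vecq (Q : ZMod p) c)} : Set S))) := by
  have hW := rep_wo hp hA hw
  have hV := rep_wo hp hA hv
  refine H.two_le_line hM (commW_wo hp hA hv hw hcm) (mem_LamU hp hq hW hyw) hy0 (μ := ev (Q : ZMod p) m ^ d)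
    (cv_vecq hp hq hV hyv d) hm (mem_LamU hp hq hW hcw) ?_
  rw [cv_vecq hp hq hV hcv d]
  have h1 : ev (Q : ZMod p) (1, 0) = 1 := by
    unfold ev
    push_cast
    ring
  rw [h1, one_pow, one_smul]

theorem rank_of (hM : IsPModular p N) (H : ModelS hp p Q (wo M Cw) d X) (hA : ∀ i j, A i j = cartanOf D l i j)
    (hw : ChainOK A Cw) (hv : ChainOK A Cv) (hcm : CommOK (hd Cv) (hd Cw)) (hq : (Q : ZMod p) ^ 2 = s * Q + t)
    {y : (Fin l → ℤ) × (Fin l → ℤ)} (hyw : ActP (hd Cw) s t (0, 1) y)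
    {m : ℤ × ℤ} (hyv : ActP (hd Cv) s t m y) (hm : ev (Q : ZMod p) m ^ d ≠ 1)
    (hy0 : vecq (Q : ZMod p) y ≠ 0) : 2 ≤ blockRank p (principalBlock N S) := by
  have hW := rep_wo hp hA hw
  have hV := rep_wo hp hA hv
  exact H.two_le hM (commW_wo hp hA hv hw hcm) (mem_LamU hp hq hW hyw) hy0 (μ := ev (Q : ZMod p) m ^ d)
    (cv_vecq hp hq hV hyv d) hm

theorem order_of (H : ModelS hp p Q (wo M Cw) d X) (hA : ∀ i j, A i j = cartanOf D l i j)
    (hw : ChainOK A Cw) (hq : (Q : ZMod p) ^ 2 = s * Q + t) {c : (Fin l → ℤ) × (Fin l → ℤ)}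
    (hcw : ActP (hd Cw) s t (0, 1) c) {k : ℕ} (hk0 : k ≠ 0) {n : ℤ}
    (hk : ∑ r ∈ Finset.range D.nroots, pw s t (dt c (vec D l r)) k = (n, 0)) (hn : (n : ZMod p) ≠ 0) :
    orderOf (X (vecq (Q : ZMod p) c)) = p ∧
      ∀ (g : S) (i : ℕ), g * X (vecq (Q : ZMod p) c) * g⁻¹ = X (vecq (Q : ZMod p) c) ^ i → (i : ZMod p) ^ k = 1 := by
  have hW := rep_wo hp hA hw
  have h1 : Sk D l (vecq (Q : ZMod p) c) k ≠ 0 := by
    rw [Sk_eq hq hk]
    unfold ev
    push_cast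
    rw [zero_mul, add_zero]
    exact hn
  exact ⟨H.order (mem_LamU hp hq hW hcw) hk0 h1, fun g i h => H.fus_pow (mem_LamU hp hq hW hcw) h1 g i h⟩

theorem ne_of (H : ModelS hp p Q (wo M Cw) d X) (hA : ∀ i j, A i j = cartanOf D l i j)
    (hw : ChainOK A Cw) (hq : (Q : ZMod p) ^ 2 = s * Q + t) {c c' : (Fin l → ℤ) × (Fin l → ℤ)}
    (hcw : ActP (hd Cw) s t (0, 1) c) (hcw' : ActP (hd Cw) s t (0, 1) c') {k : ℕ} (hk0 : k ≠ 0) {n : ℤ}
    (hk : ∑ r ∈ Finset.range D.nroots, pw s t (dt c (vec D l r)) k = (n, 0)) (hn : (n : ZMod p) ≠ 0)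
    {N₀ : ℕ} (hN : ¬ p ∣ N₀)
    (h : ∀ r ∈ Finset.range D.nroots, dt c (vec D l r) = 0 ∨ nrm s t (dt c (vec D l r)) ∣ N₀)
    (h' : ∀ r ∈ Finset.range D.nroots, dt c' (vec D l r) = 0 ∨ nrm s t (dt c' (vec D l r)) ∣ N₀) {z z' : ℕ}
    (hz : (∑ r ∈ Finset.range D.nroots, if dt c (vec D l r) = 0 then 1 else 0) = z)
    (hz' : (∑ r ∈ Finset.range D.nroots, if dt c' (vec D l r) = 0 then 1 else 0) = z') (hne : z ≠ z') :
    ∀ (g : S) (i : ℕ), g * X (vecq (Q : ZMod p) c) * g⁻¹ ≠ X (vecq (Q : ZMod p) c') ^ i := by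
  have hW := rep_wo hp hA hw
  have h1 : Sk D l (vecq (Q : ZMod p) c) k ≠ 0 := by
    rw [Sk_eq hq hk]
    unfold ev
    push_cast
    rw [zero_mul, add_zero]
    exact hn
  intro g i
  refine H.ne_pow (mem_LamU hp hq hW hcw) (mem_LamU hp hq hW hcw') hk0 h1 ?_ g i
  rw [Zc_eq hq hN h hz, Zc_eq hq hN h' hz']
  exact hne

end

namespace E7

theorem e7T : IsType Cfsg.Lie.chevE7 7 CoxeterMatrix.E₇ := by simp

variable {F : Type} [Field F] [Fintype F] {p : ℕ} [hpp : Fact p.Prime] {S : Type u} [Group S] [Finite S] {N : Ideal AlgInt}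

/-- a prime `≥ 11` does not divide a natural number with prime factors `2`, `3`, `5`, `7` -/
theorem cast_ne (h11 : 11 ≤ p) {n : ℤ} (a b c : ℕ) (hn : n.natAbs = 2 ^ a * 3 ^ b * 5 ^ c) : (n : ZMod p) ≠ 0 := by
  intro h
  rw [ZMod.intCast_zmod_eq_zero_iff_dvd, Int.natCast_dvd, hn] at h
  have hp := hpp.out
  rcases hp.dvd_mul.1 h with h | h
  · rcases hp.dvd_mul.1 h with h | h
    · have := Nat.le_of_dvd (by norm_num) (hp.dvd_of_dvd_pow h)
      omega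
    · have := Nat.le_of_dvd (by norm_num) (hp.dvd_of_dvd_pow h)
      omega
  · have := Nat.le_of_dvd (by norm_num) (hp.dvd_of_dvd_pow h)
    omega

theorem not_dvd36 (h11 : 11 ≤ p) : ¬ p ∣ 36 := by
  intro h
  have hp := hpp.out
  rcases hp.dvd_mul.1 (show p ∣ 2 ^ 2 * 3 ^ 2 by norm_num; exact h) with h | h
  · have := Nat.le_of_dvd (by norm_num) (hp.dvd_of_dvd_pow h)
    omega
  · have := Nat.le_of_dvd (by norm_num) (hp.dvd_of_dvd_pow h)
    omega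

theorem exists_model (h11 : 11 ≤ p) (hpF : (p : F) ≠ 0) (e : S ≃* ↥(chevE7.group F)) (w : CoxeterMatrix.E₇.Group) :
    ∃ X : (Fin 7 → ZMod p) → S, ModelS e7T p (Fintype.card F) w 2 X := by
  obtain ⟨X, hX⟩ := exists_modelS e7T hpF Cfsg.Agent.H129.TorusChar.invC_E7 (by norm_num)
    ((Nat.coprime_primes Nat.prime_two hpp.out).2 (by omega)) w
  exact ⟨_, hX.congr e.symm⟩

/-- two lines -/
theorem lines3 (hM : IsPModular p N) (h11 : 11 ≤ p) (hpF : (p : F) ≠ 0) (e : S ≃* ↥(chevE7.group F))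
    (hq : orderOf (Fintype.card F : ZMod p) = 3) :
    ∃ x x' : S, orderOf x = p ∧ orderOf x' = p ∧ (∀ (g : S) (i : ℕ), g * x * g⁻¹ = x ^ i → (i : ZMod p) ^ 6 = 1) ∧
      (∀ (g : S) (i : ℕ), g * x' * g⁻¹ = x' ^ i → (i : ZMod p) ^ 6 = 1) ∧ (∀ (g : S) (i : ℕ), g * x * g⁻¹ ≠ x' ^ i) ∧
      2 ≤ blockRank p (principalBlock N ↥(Subgroup.centralizer ({x} : Set S))) ∧
      2 ≤ blockRank p (principalBlock N ↥(Subgroup.centralizer ({x'} : Set S))) ∧
      2 ≤ blockRank p (principalBlock N S) := by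
  obtain ⟨X, H⟩ := exists_model h11 hpF e (wo _ w3)
  set Q := Fintype.card F with hQ
  have hq1 : (Q : ZMod p) ≠ 1 := by
    intro h
    rw [h, orderOf_one] at hq
    omega
  have hq3 : (Q : ZMod p) ^ 3 = 1 := by rw [← hq, pow_orderOf_eq_one]
  have hq2 : (Q : ZMod p) ^ 2 = ((-1 : ℤ) : ZMod p) * Q + ((-1 : ℤ) : ZMod p) := by
    have h1 : ((Q : ZMod p) - 1) * ((Q : ZMod p) ^ 2 + Q + 1) = 0 := by linear_combination hq3
    have h2 := (mul_eq_zero.1 h1).resolve_left (sub_ne_zero.2 hq1)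
    push_cast
    linear_combination h2
  have hm : ev (Q : ZMod p) (0, 1) ^ 2 ≠ 1 := by
    intro h
    have h1 : (Q : ZMod p) ^ 2 = 1 := by
      unfold ev at h
      push_cast at h
      linear_combination h
    have h2 := orderOf_dvd_of_pow_eq_one h1
    rw [hq] at h2
    norm_num at h2
  have hy0 : vecq (Q : ZMod p) y3 ≠ 0 := by
    intro h
    have h1 : vecq (Q : ZMod p) y3 5 = ((3 : ℤ) : ZMod p) + ((0 : ℤ) : ZMod p) * Q := rfl
    rw [h, Pi.zero_apply, Int.cast_zero, zero_mul, add_zero] at h1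
    exact cast_ne h11 0 1 0 (by norm_num) h1.symm
  have h1944 : ((1944 : ℤ) : ZMod p) ≠ 0 := cast_ne h11 3 5 0 (by norm_num)
  have h23328 : ((23328 : ℤ) : ZMod p) ≠ 0 := cast_ne h11 5 6 0 (by norm_num)
  obtain ⟨o1, f1⟩ := order_of H hA w3_ok hq2 a3_w (by norm_num) a3_p6 h1944
  obtain ⟨o2, f2⟩ := order_of H hA w3_ok hq2 b3_w (by norm_num) b3_p6 h23328
  exact ⟨X (vecq (Q : ZMod p) a3), X (vecq (Q : ZMod p) b3), o1, o2, f1, f2,
    ne_of H hA w3_ok hq2 a3_w b3_w (by norm_num) a3_p6 h1944 (not_dvd36 h11) a3_n b3_n a3_z b3_z (by norm_num),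
    line_of hM H hA w3_ok v3_ok comm3 hq2 a3_w y3_w a3_v y3_v hm hy0,
    line_of hM H hA w3_ok v3_ok comm3 hq2 b3_w y3_w b3_v y3_v hm hy0,
    rank_of hM H hA w3_ok v3_ok comm3 hq2 y3_w y3_v hm hy0⟩

/-- two lines -/
theorem lines6 (hM : IsPModular p N) (h11 : 11 ≤ p) (hpF : (p : F) ≠ 0) (e : S ≃* ↥(chevE7.group F))
    (hq : orderOf (Fintype.card F : ZMod p) = 6) :
    ∃ x x' : S, orderOf x = p ∧ orderOf x' = p ∧ (∀ (g : S) (i : ℕ), g * x * g⁻¹ = x ^ i → (i : ZMod p) ^ 6 = 1) ∧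
      (∀ (g : S) (i : ℕ), g * x' * g⁻¹ = x' ^ i → (i : ZMod p) ^ 6 = 1) ∧ (∀ (g : S) (i : ℕ), g * x * g⁻¹ ≠ x' ^ i) ∧
      2 ≤ blockRank p (principalBlock N ↥(Subgroup.centralizer ({x} : Set S))) ∧
      2 ≤ blockRank p (principalBlock N ↥(Subgroup.centralizer ({x'} : Set S))) ∧
      2 ≤ blockRank p (principalBlock N S) := by
  obtain ⟨X, H⟩ := exists_model h11 hpF e (wo _ w6)
  set Q := Fintype.card F with hQ
  have hno : ∀ k, k < 6 → k ≠ 0 → (Q : ZMod p) ^ k ≠ 1 := by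
    intro k hk hk0 h
    have h1 := Nat.le_of_dvd (by omega) (orderOf_dvd_of_pow_eq_one h)
    omega
  have hq6 : (Q : ZMod p) ^ 6 = 1 := by rw [← hq, pow_orderOf_eq_one]
  have hq2 : (Q : ZMod p) ^ 2 = ((1 : ℤ) : ZMod p) * Q + ((-1 : ℤ) : ZMod p) := by
    have h1 : ((Q : ZMod p) ^ 3 - 1) * (((Q : ZMod p) + 1) * ((Q : ZMod p) ^ 2 - Q + 1)) = 0 := by
      linear_combination hq6
    have h2 := (mul_eq_zero.1 h1).resolve_left (sub_ne_zero.2 (hno 3 (by norm_num) (by norm_num)))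
    have h3 : (Q : ZMod p) + 1 ≠ 0 := by
      intro h
      apply hno 2 (by norm_num) (by norm_num)
      linear_combination ((Q : ZMod p) - 1) * h
    have h4 := (mul_eq_zero.1 h2).resolve_left h3
    push_cast
    linear_combination h4
  have hm : ev (Q : ZMod p) (0, -1) ^ 2 ≠ 1 := by
    intro h
    apply hno 2 (by norm_num) (by norm_num)
    unfold ev at h
    push_cast at h
    linear_combination h
  have hy0 : vecq (Q : ZMod p) y6 ≠ 0 := by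
    intro h
    have h1 : vecq (Q : ZMod p) y6 5 = ((3 : ℤ) : ZMod p) + ((0 : ℤ) : ZMod p) * Q := rfl
    rw [h, Pi.zero_apply, Int.cast_zero, zero_mul, add_zero] at h1
    exact cast_ne h11 0 1 0 (by norm_num) h1.symm
  have h1944 : ((1944 : ℤ) : ZMod p) ≠ 0 := cast_ne h11 3 5 0 (by norm_num)
  have h23328 : ((23328 : ℤ) : ZMod p) ≠ 0 := cast_ne h11 5 6 0 (by norm_num)
  obtain ⟨o1, f1⟩ := order_of H hA w6_ok hq2 a6_w (by norm_num) a6_p6 h1944
  obtain ⟨o2, f2⟩ := order_of H hA w6_ok hq2 b6_w (by norm_num) b6_p6 h23328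
  exact ⟨X (vecq (Q : ZMod p) a6), X (vecq (Q : ZMod p) b6), o1, o2, f1, f2,
    ne_of H hA w6_ok hq2 a6_w b6_w (by norm_num) a6_p6 h1944 (not_dvd36 h11) a6_n b6_n a6_z b6_z (by norm_num),
    line_of hM H hA w6_ok v3_ok comm6 hq2 a6_w y6_w a6_v y6_v hm hy0,
    line_of hM H hA w6_ok v3_ok comm6 hq2 b6_w y6_w b6_v y6_v hm hy0,
    rank_of hM H hA w6_ok v3_ok comm6 hq2 y6_w y6_v hm hy0⟩

/-- one line -/
theorem line4 (hM : IsPModular p N) (h11 : 11 ≤ p) (hpF : (p : F) ≠ 0) (e : S ≃* ↥(chevE7.group F))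
    (hq : orderOf (Fintype.card F : ZMod p) = 4) :
    ∃ x : S, orderOf x = p ∧ (∀ (g : S) (i : ℕ), g * x * g⁻¹ = x ^ i → (i : ZMod p) ^ 4 = 1) ∧
      2 ≤ blockRank p (principalBlock N ↥(Subgroup.centralizer ({x} : Set S))) ∧
      2 ≤ blockRank p (principalBlock N S) := by
  obtain ⟨X, H⟩ := exists_model h11 hpF e (wo _ w4)
  set Q := Fintype.card F with hQ
  have hno : ∀ k, k < 4 → k ≠ 0 → (Q : ZMod p) ^ k ≠ 1 := by
    intro k hk hk0 h
    have h1 := Nat.le_of_dvd (by omega) (orderOf_dvd_of_pow_eq_one h)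
    omega
  have hq4 : (Q : ZMod p) ^ 4 = 1 := by rw [← hq, pow_orderOf_eq_one]
  have hq2 : (Q : ZMod p) ^ 2 = ((0 : ℤ) : ZMod p) * Q + ((-1 : ℤ) : ZMod p) := by
    have h1 : ((Q : ZMod p) ^ 2 - 1) * ((Q : ZMod p) ^ 2 + 1) = 0 := by linear_combination hq4
    have h2 := (mul_eq_zero.1 h1).resolve_left (sub_ne_zero.2 (hno 2 (by norm_num) (by norm_num)))
    push_cast
    linear_combination h2
  have hm : ev (Q : ZMod p) (0, 1) ^ 2 ≠ 1 := by
    intro h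
    apply hno 2 (by norm_num) (by norm_num)
    unfold ev at h
    push_cast at h
    linear_combination h
  have hy0 : vecq (Q : ZMod p) y4 ≠ 0 := by
    intro h
    have h1 : vecq (Q : ZMod p) y4 6 = ((0 : ℤ) : ZMod p) + ((2 : ℤ) : ZMod p) * Q := rfl
    rw [h, Pi.zero_apply, Int.cast_zero, zero_add] at h1
    rcases mul_eq_zero.1 h1.symm with h2 | h2
    · exact cast_ne h11 1 0 0 (by norm_num) h2
    · rw [h2] at hq4
      norm_num at hq4
  have h25600 : ((25600 : ℤ) : ZMod p) ≠ 0 := cast_ne h11 10 0 2 (by norm_num)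
  have h921600 : ((-921600 : ℤ) : ZMod p) ≠ 0 := cast_ne h11 12 2 2 (by norm_num)
  obtain ⟨o1, f1⟩ := order_of H hA w4_ok hq2 a4_w (by norm_num) a4_p8 h25600
  obtain ⟨-, f2⟩ := order_of H hA w4_ok hq2 a4_w (by norm_num) a4_p12 h921600
  refine ⟨X (vecq (Q : ZMod p) a4), o1, fun g i h => ?_,
    line_of hM H hA w4_ok v4_ok comm4 hq2 a4_w y4_w a4_v y4_v hm hy0,
    rank_of hM H hA w4_ok v4_ok comm4 hq2 y4_w y4_v hm hy0⟩
  have h1 := f1 g i h
  have h2 := f2 g i h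
  rw [show 12 = 8 + 4 by norm_num, pow_add, h1, one_mul] at h2
  exact h2

end E7

end Cfsg.Agent.H567.KB
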