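import Cfsg.Agent.H440.TD4.Model

/-!
# The torus model in `D.group F` (S4822, KE4; helper567)

`InvC D l d B`, `p ∤ d` : the `p`-elements of the fixed points of the Frobenius automorphism lie in `D.group F`, and so do the
`d`-th powers of all fixed points.

* `ModelS hp p Q w d X` : `X : (Fin l → ZMod p) → D.group F` as in `H440.TD4.Model`, with `act` for the `d`-th powers `v ^ d`;
* `exists_modelS`.
* `sum_eq_of_fus` : the sums over the roots.
-/

set_option autoImplicit false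
set_option linter.unusedSectionVars false

namespace Cfsg.Agent.H567.KB

open CoxeterSystem Cfsg Cfsg.Lie Cfsg.Lie.ChevalleyDatum
open Cfsg.Agent.ChevalleyStructure Cfsg.Agent.ChevalleyStructure.Elts Cfsg.Agent.ChevalleyStructure.CoxeterGeom
  Cfsg.Agent.ChevalleyStructure.CoxeterGeomTypes Cfsg.Agent.ChevalleyStructure.NPerm
open Cfsg.Agent.Tits.Roots Cfsg.Agent.Tits.Core Cfsg.Agent.Nodes Cfsg.Agent.Nodes.Reps Cfsg.Agent.Nodes.BNOf
  Cfsg.Agent.Nodes.RGDChev Cfsg.Agent.Nodes.Bruhat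
open Cfsg.Agent.KFacts.RgdField Cfsg.Agent.KFacts.RgdChevCoord Cfsg.Agent.BpExc.TorCent Cfsg.Agent.BpExc.TorChev
open Cfsg.Agent.GpExc.Field Cfsg.Agent.BpExc.Tow Cfsg.Agent.BpExc.TowChev Cfsg.Agent.BpExc.Fr
  Cfsg.Agent.BpExc.LangFr Cfsg.Agent.H795.SetCent Cfsg.Agent.H795.Toral Cfsg.Agent.H795.Core
  Cfsg.Agent.H795.RootConn Cfsg.Agent.H795.SetTor Cfsg.Agent.H129.TorusChar Cfsg.Agent.H129.TorusUntw
  Cfsg.Agent.H129.WData Cfsg.Agent.H795.Reduce Cfsg.Agent.H795.LangT Cfsg.Agent.H123.ExcZ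
  Cfsg.Agent.BpExc Cfsg.Agent.H210.EL Cfsg.Agent.H440.TD4 Cfsg.Agent.H795.Untw

universe u v

variable {D : ChevalleyDatum} {l : ℕ} {M : CoxeterMatrix (Fin l)} (hp : IsType D l M)

/-- the functional `c ∘ v` -/
def cv (hp : IsType D l M) {p : ℕ} (c : Fin l → ZMod p) (v : M.Group) : Fin l → ZMod p :=
  fun i => lam c (rep M.toCoxeterSystem hp.isCartan v (sr i))

theorem lam_cv {p : ℕ} (c : Fin l → ZMod p) (v : M.Group) (x : Fin l → ℤ) :
    lam (cv hp c v) x = lam c (rep M.toCoxeterSystem hp.isCartan v x) :=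
  ext_sr (lamHom (cv hp c v)) ((lamHom c).comp (rep M.toCoxeterSystem hp.isCartan v).toAddMonoidHom) (fun i => by
    show lam (cv hp c v) (sr i) = lam c (rep M.toCoxeterSystem hp.isCartan v (sr i))
    rw [lam_sr]
    rfl) x

theorem lam_ext {p : ℕ} {a b : Fin l → ZMod p} (h : ∀ x, lam a x = lam b x) : a = b := by
  funext i
  have := h (sr i)
  rwa [lam_sr, lam_sr] at this

/-- `Lam` for the untwisted groups -/
abbrev LamU (hp : IsType D l M) (p Q : ℕ) (w : M.Group) : Set (Fin l → ZMod p) :=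
  Lam hp p Q (AddEquiv.refl (Fin l → ℤ)) w

/-- `v` commutes with `w` on the lattice -/
def CommW (hp : IsType D l M) (v w : M.Group) : Prop :=
  ∀ x, rep M.toCoxeterSystem hp.isCartan v (rep M.toCoxeterSystem hp.isCartan w x) =
    rep M.toCoxeterSystem hp.isCartan w (rep M.toCoxeterSystem hp.isCartan v x)

theorem cv_mem {p Q : ℕ} {w v : M.Group} (hv : CommW hp v w) {c : Fin l → ZMod p} (hc : c ∈ LamU hp p Q w) :
    cv hp c v ∈ LamU hp p Q w := by
  intro x
  show lam (cv hp c v) (rep M.toCoxeterSystem hp.isCartan w x) = _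
  rw [lam_cv, lam_cv, hv]
  exact hc _

/-- The model in the simple group. -/
structure ModelS (hp : IsType D l M) (p Q : ℕ) (w : M.Group) (d : ℕ) {S : Type v} [Group S]
    (X : (Fin l → ZMod p) → S) : Prop where
  add : ∀ c ∈ LamU hp p Q w, ∀ c' ∈ LamU hp p Q w, X (c + c') = X c * X c'
  inj : ∀ c ∈ LamU hp p Q w, X c = 1 → c = 0
  pow : ∀ c ∈ LamU hp p Q w, X c ^ p = 1
  act : ∀ v : M.Group, CommW hp v w → ∃ m : S, ∀ c ∈ LamU hp p Q w, m * X (cv hp c (v ^ d)) * m⁻¹ = X c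
  fus : ∀ c ∈ LamU hp p Q w, ∀ c' ∈ LamU hp p Q w, ∀ h : S, h * X c * h⁻¹ = X c' →
    ∃ w' : M.Group, ∀ x, lam c' (rep M.toCoxeterSystem hp.isCartan w' x) = lam c x

theorem CommW.pow {v w : M.Group} (hv : CommW hp v w) (n : ℕ) : CommW hp (v ^ n) w := by
  induction n with
  | zero =>
    intro x
    rw [pow_zero, map_one, Module.End.one_apply, Module.End.one_apply]
  | succ n ih =>
    intro x
    rw [pow_succ, map_mul, Module.End.mul_apply, Module.End.mul_apply, hv, ih]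

theorem cv_mul {p : ℕ} (c : Fin l → ZMod p) (v v' : M.Group) : cv hp c (v * v') = cv hp (cv hp c v) v' := by
  apply lam_ext
  intro x
  rw [lam_cv, lam_cv, lam_cv, map_mul, Module.End.mul_apply]

/-- powers of the acting element -/
theorem act_pow {p Q : ℕ} {w v : M.Group} {G : Type v} [Group G] {X : (Fin l → ZMod p) → G} (hv : CommW hp v w) {m : G}
    (hm : ∀ c ∈ LamU hp p Q w, ∀ c' ∈ LamU hp p Q w,
      (∀ x, lam c' (rep M.toCoxeterSystem hp.isCartan v x) = lam c x) → m * X c * m⁻¹ = X c') (n : ℕ) :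
    ∀ c ∈ LamU hp p Q w, m ^ n * X (cv hp c (v ^ n)) * (m ^ n)⁻¹ = X c := by
  induction n with
  | zero =>
    intro c hc
    have h1 : cv hp c (v ^ 0) = c := by
      apply lam_ext
      intro x
      rw [lam_cv, pow_zero, map_one, Module.End.one_apply]
    rw [h1, pow_zero, one_mul, inv_one, mul_one]
  | succ n ih =>
    intro c hc
    have h1 : cv hp c (v ^ (n + 1)) = cv hp (cv hp c v) (v ^ n) := by
      rw [pow_succ', cv_mul]
    have h2 := ih (cv hp c v) (cv_mem hp hv hc)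
    have h3 := hm (cv hp c v) (cv_mem hp hv hc) c hc (fun x => (lam_cv hp c v x).symm)
    rw [h1, pow_succ', mul_inv_rev]
    calc m * m ^ n * X (cv hp (cv hp c v) (v ^ n)) * ((m ^ n)⁻¹ * m⁻¹)
        = m * (m ^ n * X (cv hp (cv hp c v) (v ^ n)) * (m ^ n)⁻¹) * m⁻¹ := by group
      _ = X c := by rw [h2, h3]

include hp in
/-- **The model in `D.group F`.** -/
theorem exists_modelS {F : Type u} [Field F] [Fintype F] {p : ℕ} [hpp : Fact p.Prime] (hpF : (p : F) ≠ 0)
    {d : ℕ} {B : Fin l → Fin l → ℤ} (hB : InvC D l d B) (hd : d ≠ 0) (hdp : d.Coprime p) (w : M.Group) :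
    ∃ X : (Fin l → ZMod p) → ↥(D.group F), ModelS hp p (Fintype.card F) w d X := by
  classical
  obtain ⟨r, e', hr, hrF, hrk, he', hq, hk⟩ := exists_closure (F := F) rfl
  have hpr : p ≠ r := by
    rintro rfl
    exact hpF (CharP.cast_eq_zero F p)
  let f : F →+* AlgebraicClosure F := algebraMap F (AlgebraicClosure F)
  have hσ : IsFrob r e' (phi D (AlgebraicClosure F) r e') := isFrob_phi
  have Fr0 : Fr M.toCoxeterSystem hp.isCartan (TT D (AlgebraicClosure F)) (XX D l (AlgebraicClosure F))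
      (phi D (AlgebraicClosure F) r e') (AddEquiv.refl (Fin l → ℤ)) := fr_phi hp _
  let G : Subgroup ↥(D.group (AlgebraicClosure F)) :=
    MonoidHom.eqLocus (phi D (AlgebraicClosure F) r e').toMonoidHom (MonoidHom.id _)
  have hG : ∀ y : ↥(D.group (AlgebraicClosure F)), y ∈ G ↔ phi D (AlgebraicClosure F) r e' y = y := fun y => Iff.rfl
  obtain ⟨X, hX⟩ := exists_model (p := p) hp hk hpr hB hd he' hσ Fr0 (G := G) (f := G.subtype)
    (Subgroup.subtype_injective _) (fun y hy => ⟨⟨y, hy⟩, rfl⟩) w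
  rw [← hq] at hX
  have hinj := emb_injective hp.inList f
  have hfixP : ∀ y : G, (y : ↥(D.group (AlgebraicClosure F))) ^ d ∈ (emb hp.inList f).range := fun y =>
    fix_pow_range hp M.toCoxeterSystem f hq hB hd ((hG _).1 y.2)
  have hX1 : ∀ c : Fin l → ZMod p, ∃ x : ↥(D.group F), c ∈ LamU hp p (Fintype.card F) w →
      emb hp.inList f x = (X c : ↥(D.group (AlgebraicClosure F))) := by
    intro c
    by_cases hc : c ∈ LamU hp p (Fintype.card F) w
    · obtain ⟨x, hx⟩ := mem_of_pow_mem hdp (congrArg Subtype.val (hX.pow c hc)) (hfixP (X c))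
      exact ⟨x, fun _ => hx⟩
    · exact ⟨1, fun h => absurd h hc⟩
  choose Y hY using hX1
  refine ⟨Y, ?_, ?_, ?_, ?_, ?_⟩
  · intro c hc c' hc'
    apply hinj
    rw [map_mul, hY _ (Lam.add hp hc hc'), hY _ hc, hY _ hc', hX.add c hc c' hc']
    rfl
  · intro c hc h1
    refine hX.inj c hc (Subtype.ext ?_)
    rw [← hY _ hc, h1, map_one]
    rfl
  · intro c hc
    apply hinj
    rw [map_pow, hY _ hc, map_one]
    exact congrArg Subtype.val (hX.pow c hc)
  · intro v hv
    obtain ⟨m, hm⟩ := hX.act v hv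
    obtain ⟨n, hn⟩ := hfixP m
    refine ⟨n, fun c hc => ?_⟩
    apply hinj
    have h1 := congrArg Subtype.val (act_pow hp hv hm d c hc)
    rw [map_mul, map_mul, map_inv, hn, hY _ hc, hY _ (cv_mem hp (hv.pow hp d) hc)]
    exact h1
  · intro c hc c' hc' h hh
    have h2 : emb hp.inList f h ∈ G := by
      rw [hG]
      exact phi_emb hp f hq h
    refine hX.fus c hc c' hc' ⟨emb hp.inList f h, h2⟩ (Subtype.ext ?_)
    have h3 := congrArg (emb hp.inList f) hh
    rw [map_mul, map_mul, map_inv, hY _ hc, hY _ hc'] at h3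
    exact h3

/-! ### sums over the roots -/

theorem sum_rep {A : Type*} [AddCommMonoid A] (f : (Fin l → ℤ) → A) (w : M.Group) :
    ∑ r ∈ Finset.range D.nroots, f (rep M.toCoxeterSystem hp.isCartan w (vec D l r)) =
      ∑ r ∈ Finset.range D.nroots, f (vec D l r) := by
  have hroot : ∀ (v : M.Group) (x : Fin l → ℤ), IsRoot M.toCoxeterSystem hp.isCartan x →
      IsRoot M.toCoxeterSystem hp.isCartan (rep M.toCoxeterSystem hp.isCartan v x) := by
    rintro v _ ⟨u, i, rfl⟩
    exact ⟨v * u, i, by rw [map_mul]; rfl⟩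
  have key : ∀ (v : M.Group), ∀ r ∈ Finset.range D.nroots, ∃ s ∈ Finset.range D.nroots,
      vec D l s = rep M.toCoxeterSystem hp.isCartan v (vec D l r) := by
    intro v r hr
    obtain ⟨s, hs, h1⟩ := (isRoot_iff hp M.toCoxeterSystem _).1
      (hroot v _ (isRoot_vec hp M.toCoxeterSystem (Finset.mem_range.1 hr)))
    exact ⟨s, Finset.mem_range.2 hs, h1⟩
  choose! φ hφ1 hφ2 using key
  refine Finset.sum_bij (fun r _ => φ w r) (fun r hr => hφ1 w r hr) ?_ ?_ ?_
  · intro r hr s hs h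
    have h1 := hφ2 w r hr
    rw [show φ w r = φ w s from h, hφ2 w s hs] at h1
    have h2 := (repAut M.toCoxeterSystem hp.isCartan w).injective h1
    exact vec_inj hp (Finset.mem_range.1 hr) (Finset.mem_range.1 hs) h2.symm
  · intro s hs
    refine ⟨φ w⁻¹ s, hφ1 _ s hs, ?_⟩
    have h1 := hφ2 w⁻¹ s hs
    have h2 := hφ2 w (φ w⁻¹ s) (hφ1 _ s hs)
    rw [h1, ← Module.End.mul_apply, ← map_mul, mul_inv_cancel, map_one, Module.End.one_apply] at h2
    exact vec_inj hp (Finset.mem_range.1 (hφ1 _ _ (hφ1 _ s hs))) (Finset.mem_range.1 hs) h2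
  · intro r hr
    rw [hφ2 w r hr]

end Cfsg.Agent.H567.KB
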