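import Cfsg.Agent.S2378

/-!
# Noncyclic Sylow subgroups of the exceptional groups (S4822, KE; helper567)

`two_le_of_nc` : `c` a Chevalley datum with the degrees of its Weyl group, `p` prime to the characteristic and to the order
of the Weyl group, noncyclic Sylow `p`-subgroups: at least two of the degrees are divisible by `ord_p(q)`.
-/

set_option autoImplicit false

open Cfsg

namespace Cfsg.Agent.H567.KB

/-- the divisibility `p ∣ |S|` -/
theorem dvd_card_of_nc {S : Type*} [Group S] [Finite S] {p : ℕ} [Fact p.Prime]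
    (hP : ∀ P : Sylow p S, ¬ IsCyclic (P : Subgroup S)) : p ∣ Nat.card S := by
  by_contra hn
  let P : Sylow p S := default
  apply hP P
  have h2 : Nat.card (P : Subgroup S) = 1 := by
    rw [Sylow.card_eq_multiplicity, Nat.factorization_eq_zero_of_not_dvd hn, pow_zero]
  have : Subsingleton (P : Subgroup S) := (Nat.card_eq_one_iff_unique.1 h2).1
  infer_instance

theorem two_le_of_nc {F : Type*} [Field F] [Fintype F] (c : Cfsg.Lie.ChevalleyDatum × List ℕ)
    (hc : c ∈ [(Cfsg.Lie.chevG2, [2, 6]), (Cfsg.Lie.chevB2, [2, 4]), (Cfsg.Lie.chevD4, [2, 4, 4, 6]), (Cfsg.Lie.chevF4, [2, 6, 8, 12]),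
      (Cfsg.Lie.chevE6, [2, 5, 6, 8, 9, 12]), (Cfsg.Lie.chevE7, [2, 6, 8, 10, 12, 14, 18]), (Cfsg.Lie.chevE8, [2, 8, 12, 14, 18, 20, 24, 30])])
    {p : ℕ} [Fact p.Prime] (hpq : ¬ p ∣ Fintype.card F) (hpW : ¬ p ∣ c.2.prod) {S : Type*} [Group S] [Finite S]
    (e : S ≃* ↥(c.1.group F)) (hP : ∀ P : Sylow p S, ¬ IsCyclic (P : Subgroup S)) :
    2 ≤ (c.2.filter (fun n => orderOf (Fintype.card F : ZMod p) ∣ n)).length := by
  have hfin : Finite ↥(c.1.group F) := Finite.of_equiv S e.toEquiv
  have hdvd : p ∣ Nat.card ↥(c.1.group F) := by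
    rw [← Nat.card_congr e.toEquiv]
    exact dvd_card_of_nc hP
  by_contra hlen
  let P : Sylow p S := default
  apply hP P
  -- the image
  have hPg : IsPGroup p ↥((P : Subgroup S).map e.toMonoidHom) := P.2.map _
  obtain ⟨R, hR⟩ := hPg.exists_le_sylow
  obtain ⟨e1⟩ := S2378.result rfl c hc p hpq hpW hdvd R
  have hRc : IsCyclic ↥(R : Subgroup ↥(c.1.group F)) := by
    generalize (c.2.filter (fun n => orderOf (Fintype.card F : ZMod p) ∣ n)).length = n at e1 hlen
    have h2 : IsCyclic (Fin n → Multiplicative (ZMod (p ^ padicValNat p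
        ((Polynomial.cyclotomic (orderOf (Fintype.card F : ZMod p)) ℤ).eval (Fintype.card F : ℤ)).natAbs))) := by
      have hn : n < 2 := by omega
      interval_cases n
      · infer_instance
      · refine isCyclic_of_injective (Pi.evalMonoidHom _ (0 : Fin 1)) fun a b hab => ?_
        funext i
        rw [Fin.fin_one_eq_zero i]
        exact hab
    exact isCyclic_of_injective e1.toMonoidHom e1.injective
  let f : ↥(P : Subgroup S) →* ↥(R : Subgroup ↥(c.1.group F)) :=
    (e.toMonoidHom.comp (P : Subgroup S).subtype).codRestrict _ fun x => hR (Subgroup.mem_map_of_mem _ x.2)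
  refine isCyclic_of_injective f fun a b hab => ?_
  have h1 : e (a : S) = e (b : S) := congrArg Subtype.val hab
  exact Subtype.ext (e.injective h1)

end Cfsg.Agent.H567.KB
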