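import Cfsg.Agent.H567.KB.E7Row
import Cfsg.Agent.H567.KB.NCCyc
import Cfsg.Agent.H626.ExtB.Chev
import Cfsg.Agent.H191.KB.Final
import Cfsg.Agent.H349.KBE.TwoRows
import Cfsg.Agent.H349.KBE.RowG2
import Cfsg.Agent.H832.KB.Family

/-!
# `row_E7` (S4822, KE4; helper567)
-/

set_option autoImplicit false
set_option linter.unusedSectionVars false

namespace Cfsg.Agent.H567.KB.E7

open Cfsg Cfsg.Lie Cfsg.Agent.H508.KB Cfsg.Agent.H567.KB

universe u

theorem cases7 {d : ℕ} (h : 2 ≤ ([2, 6, 8, 10, 12, 14, 18].filter (fun n => d ∣ n)).length) :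
    d = 1 ∨ d = 2 ∨ d = 3 ∨ d = 4 ∨ d = 6 := by
  have hd : d ≤ 18 := by
    by_contra h'
    have h1 : [2, 6, 8, 10, 12, 14, 18].filter (fun n => d ∣ n) = [] := by
      rw [List.filter_eq_nil_iff]
      intro n hn
      have h2 : 0 < n ∧ n ≤ 18 := by
        simp only [List.mem_cons, List.mem_nil_iff, or_false] at hn
        omega
      rw [decide_eq_true_iff]
      intro h3
      have := Nat.le_of_dvd h2.1 h3
      omega
    rw [h1] at h
    simp at h
  interval_cases d <;> revert h <;> decide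

variable {p : ℕ} [hpp : Fact p.Prime] {M : Ideal AlgInt} (S : Type u) [Group S] [Finite S] [IsSimpleGroup S] {r : ℕ}
  [Fact r.Prime] {F : Type} [Field F] [Fintype F] [CharP F r]

/-- the row, from `AbOut` -/
theorem row_of (hrp : r ≠ p) (h11 : 11 ≤ p) (hM : IsPModular p M) (e : S ≃* ↥(Lie.chevE7.group F))
    (hP : ∀ P : Sylow p S, ¬ IsCyclic (P : Subgroup S)) (hab : AbOut p S) : Row p M S := by
  have hp := hpp.out
  have hr : r.Prime := Fact.out
  obtain ⟨n, hn⟩ : ∃ n : ℕ, Fintype.card F = r ^ n := by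
    obtain ⟨n, -, hn⟩ := FiniteField.card F r
    exact ⟨n, hn⟩
  have hpq : ¬ p ∣ Fintype.card F := by
    rw [hn]
    intro h
    exact hrp ((Nat.prime_dvd_prime_iff_eq hp hr).1 (hp.dvd_of_dvd_pow h)).symm
  have hpF : (p : F) ≠ 0 := by
    intro h
    rw [CharP.cast_eq_zero_iff F r] at h
    exact hrp ((Nat.prime_dvd_prime_iff_eq hr hp).1 h)
  have hpW : ¬ p ∣ [2, 6, 8, 10, 12, 14, 18].prod := by
    intro h
    rcases hp.dvd_mul.1 (show p ∣ (2 ^ 10 * 3 ^ 4) * (5 * 7) by norm_num at h ⊢; exact h) with h | h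
    · rcases hp.dvd_mul.1 h with h | h
      · have := Nat.le_of_dvd (by norm_num) (hp.dvd_of_dvd_pow h)
        omega
      · have := Nat.le_of_dvd (by norm_num) (hp.dvd_of_dvd_pow h)
        omega
    · rcases hp.dvd_mul.1 h with h | h
      · have := Nat.le_of_dvd (by norm_num) h
        omega
      · have := Nat.le_of_dvd (by norm_num) h
        omega
  have hd := cases7 (two_le_of_nc (Cfsg.Lie.chevE7, [2, 6, 8, 10, 12, 14, 18]) (by simp) hpq hpW e hP)
  have hpS : p ∣ Nat.card S := dvd_card_of_nc hP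
  have hord : (Fintype.card F : ZMod p) ^ orderOf (Fintype.card F : ZMod p) = 1 := pow_orderOf_eq_one _
  have hext : orderOf (Fintype.card F : ZMod p) ≠ 1 → ExtB p M S := by
    intro h1
    refine H626.ExtB.Chev.extB_E7 hp hM hrp (fun h2 => h1 ?_) hpS ⟨e⟩
    rw [orderOf_eq_one_iff]
    have h3 : ((Fintype.card F - 1 : ℕ) : ZMod p) = 0 := (ZMod.natCast_eq_zero_iff _ _).2 h2
    rw [Nat.cast_sub Fintype.card_pos, Nat.cast_one] at h3
    exact sub_eq_zero.1 h3
  have key : p ∣ Fintype.card F ^ 2 - 1 → Row p M S := fun h2 =>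
    H191.KB.row_of_ab hM hab (H349.KBE.le_kB hM ((H349.KBE.cls_E7 (r := r) (by omega) hrp.symm h2).congr e))
  have hdvd : ∀ k, (Fintype.card F : ZMod p) ^ k = 1 → p ∣ Fintype.card F ^ k - 1 := by
    intro k hk
    rw [← ZMod.natCast_eq_zero_iff, Nat.cast_sub (Nat.one_le_pow _ _ Fintype.card_pos)]
    push_cast
    rw [hk, sub_self]
  have hdv : ∀ k, (Fintype.card F : ZMod p) ^ k = 1 → orderOf (Fintype.card F : ZMod p) = k → k ≠ 0 → k ∣ p - 1 := by
    intro k hk h hk0
    rw [← h]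
    refine orderOf_dvd_of_pow_eq_one (ZMod.pow_card_sub_one_eq_one ?_)
    intro h0
    rw [h0, zero_pow hk0] at hk
    exact zero_ne_one hk
  rcases hd with hd | hd | hd | hd | hd
  · rw [hd, pow_one] at hord
    exact key (hdvd 2 (by rw [hord, one_pow]))
  · rw [hd] at hord
    exact key (hdvd 2 hord)
  · obtain ⟨x, x', o1, o2, f1, f2, hne, b1, b2, b3⟩ := lines3 hM h11 hpF e hd
    have h1 := H832.KB.kB_of_two hM x x' 1 1 (by rw [o1, pow_one]) (by rw [o2, pow_one]) one_ne_zero one_ne_zero 6 6 2 2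
      f1 f2 hne b1 b2
    rw [hd] at hord
    have h3 := hdv 3 hord hd (by norm_num)
    have h2 : 2 ∣ p - 1 := (hp.odd_of_ne_two (by omega)).tsub_odd odd_one |>.two_dvd
    refine H191.KB.row_of_ext hM hab (hext (by omega)) ?_
    omega
  · obtain ⟨x, o1, f1, b1, b3⟩ := line4 hM h11 hpF e hd
    have h1 := H832.KB.kB_of_one hM x 1 (by rw [o1, pow_one]) one_ne_zero 4 2 f1 b1
    rw [hd] at hord
    have h3 := hdv 4 hord hd (by norm_num)
    refine H191.KB.row_of_ext hM hab (hext (by omega)) ?_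
    omega
  · obtain ⟨x, x', o1, o2, f1, f2, hne, b1, b2, b3⟩ := lines6 hM h11 hpF e hd
    have h1 := H832.KB.kB_of_two hM x x' 1 1 (by rw [o1, pow_one]) (by rw [o2, pow_one]) one_ne_zero one_ne_zero 6 6 2 2
      f1 f2 hne b1 b2
    rw [hd] at hord
    have h3 := hdv 6 hord hd (by norm_num)
    refine H191.KB.row_of_ext hM hab (hext (by omega)) ?_
    omega

end Cfsg.Agent.H567.KB.E7
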