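import Cfsg.Agent.H567.KB.Mod
import Cfsg.Agent.H296.KB.Rank

/-!
# Lines of the torus model with integral data (S4822, KE4; helper567)

`q : ZMod p` with `q ^ 2 = s q + t`; functionals `vecq q u0 u1 = u0 + q u1` with `u0`, `u1` integral.

* `mem_LamU`, `cv_vecq` : eigenvectors and the action, from integral matrix identities (decidable);
* `sum_pow` : power sums over the roots; `zero_card` : the number of the roots which vanish;
* `ModelS.fus_pow`, `ModelS.ne_pow` : fusion;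
* `two_le_rank'` : `l(B₀(C(x))) ≥ 2` from an element centralising `x` and acting on `y`.
-/

set_option autoImplicit false
set_option linter.unusedSectionVars false

namespace Cfsg.Agent.H567.KB

open CoxeterSystem Cfsg Cfsg.Lie Cfsg.Lie.ChevalleyDatum
open Cfsg.Agent.ChevalleyStructure.CoxeterGeom Cfsg.Agent.ChevalleyStructure.CoxeterGeomTypes
open Cfsg.Agent.Tits.Roots Cfsg.Agent.Tits.Core Cfsg.Agent.Nodes Cfsg.Agent.Nodes.Reps Cfsg.Agent.Nodes.RGDChev
open Cfsg.Agent.H129.WData Cfsg.Agent.H210.EL Cfsg.Agent.H440.TD4 Cfsg.Agent.H508.KB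
open scoped Classical in

/-! ### pairs of integers -/

/-- multiplication of `x + y q` -/
def pml (s t : ℤ) (x y : ℤ × ℤ) : ℤ × ℤ := (x.1 * y.1 + t * (x.2 * y.2), x.1 * y.2 + x.2 * y.1 + s * (x.2 * y.2))

/-- powers -/
def pw (s t : ℤ) (x : ℤ × ℤ) : ℕ → ℤ × ℤ
  | 0 => (1, 0)
  | n + 1 => pml s t (pw s t x n) x

section

variable {p : ℕ} {q : ZMod p} {s t : ℤ}

/-- evaluation -/
def ev (q : ZMod p) (x : ℤ × ℤ) : ZMod p := (x.1 : ZMod p) + (x.2 : ZMod p) * q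

theorem ev_mul (hq : q ^ 2 = s * q + t) (x y : ℤ × ℤ) : ev q (pml s t x y) = ev q x * ev q y := by
  unfold ev pml
  push_cast
  linear_combination -(x.2 : ZMod p) * y.2 * hq

theorem ev_pw (hq : q ^ 2 = s * q + t) (x : ℤ × ℤ) (n : ℕ) : ev q (pw s t x n) = ev q x ^ n := by
  induction n with
  | zero =>
    unfold pw ev
    push_cast
    ring
  | succ n ih =>
    show ev q (pml s t (pw s t x n) x) = _
    rw [ev_mul hq, ih, pow_succ]

theorem ev_add (x y : ℤ × ℤ) : ev q (x + y) = ev q x + ev q y := by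
  unfold ev
  rw [Prod.fst_add, Prod.snd_add]
  push_cast
  ring

theorem ev_sum {ι : Type*} (S : Finset ι) (f : ι → ℤ × ℤ) : ev q (∑ i ∈ S, f i) = ∑ i ∈ S, ev q (f i) := by
  classical
  induction S using Finset.induction_on with
  | empty =>
    unfold ev
    simp
  | insert a S ha ih => rw [Finset.sum_insert ha, Finset.sum_insert ha, ev_add, ih]

/-- the norm -/
def nrm (s t : ℤ) (x : ℤ × ℤ) : ℤ := x.1 ^ 2 + s * x.1 * x.2 - t * x.2 ^ 2

theorem ev_norm (hq : q ^ 2 = s * q + t) (x : ℤ × ℤ) : ev q x * ev q (x.1 + s * x.2, -x.2) = (nrm s t x : ZMod p) := by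
  unfold ev nrm
  push_cast
  linear_combination -(x.2 : ZMod p) ^ 2 * hq

theorem ev_ne_zero [hpp : Fact p.Prime] (hq : q ^ 2 = s * q + t) {N : ℕ} (hN : ¬ p ∣ N) {x : ℤ × ℤ} (hx : nrm s t x ∣ N) :
    ev q x ≠ 0 := by
  intro h
  have h1 := ev_norm hq x
  rw [h, zero_mul] at h1
  have h2 : ((nrm s t x : ℤ) : ZMod p) = 0 := h1.symm
  rw [ZMod.intCast_zmod_eq_zero_iff_dvd] at h2
  have h3 := h2.trans hx
  exact hN (by exact_mod_cast h3)

/-- the functional -/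
def vecq {l : ℕ} (q : ZMod p) (u : (Fin l → ℤ) × (Fin l → ℤ)) : Fin l → ZMod p :=
  fun n => (u.1 n : ZMod p) + (u.2 n : ZMod p) * q

/-- the values of the functional as a pair -/
def dt {l : ℕ} (u : (Fin l → ℤ) × (Fin l → ℤ)) (x : Fin l → ℤ) : ℤ × ℤ := (∑ n, x n * u.1 n, ∑ n, x n * u.2 n)

theorem lam_vecq {l : ℕ} (u : (Fin l → ℤ) × (Fin l → ℤ)) (x : Fin l → ℤ) : lam (vecq q u) x = ev q (dt u x) := by
  unfold lam vecq ev dt
  push_cast
  rw [Finset.sum_mul, ← Finset.sum_add_distrib]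
  refine Finset.sum_congr rfl fun n _ => ?_
  ring

/-- the matrix acts on the functional as multiplication by `m` -/
def ActP {l : ℕ} (W : Mat l) (s t : ℤ) (m : ℤ × ℤ) (u : (Fin l → ℤ) × (Fin l → ℤ)) : Prop :=
  ∀ j, dt u (W j) = pml s t m (u.1 j, u.2 j)

instance {l : ℕ} (W : Mat l) (s t : ℤ) (m : ℤ × ℤ) (u : (Fin l → ℤ) × (Fin l → ℤ)) : Decidable (ActP W s t m u) := by
  unfold ActP; infer_instance

end

variable {D : ChevalleyDatum} {l : ℕ} {M : CoxeterMatrix (Fin l)} (hp : IsType D l M)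

theorem lam_act {p : ℕ} {q : ZMod p} {s t : ℤ} (hq : q ^ 2 = s * q + t) {w : M.Group} {W : Mat l}
    (hW : ∀ j, rep M.toCoxeterSystem hp.isCartan w (sr j) = W j) {m : ℤ × ℤ} {u : (Fin l → ℤ) × (Fin l → ℤ)}
    (h : ActP W s t m u) (x : Fin l → ℤ) :
    lam (vecq q u) (rep M.toCoxeterSystem hp.isCartan w x) = ev q m * lam (vecq q u) x := by
  have h1 := ext_sr ((lamHom (vecq q u)).comp (rep M.toCoxeterSystem hp.isCartan w).toAddMonoidHom)
    ((AddMonoidHom.mulLeft (ev q m)).comp (lamHom (vecq q u))) (fun i => by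
      show lam (vecq q u) (rep M.toCoxeterSystem hp.isCartan w (sr i)) = ev q m * lam (vecq q u) (sr i)
      rw [hW i, lam_sr, lam_vecq, h i, ev_mul hq]
      rfl) x
  exact h1

theorem mem_LamU {p Q : ℕ} {s t : ℤ} (hq : (Q : ZMod p) ^ 2 = s * Q + t) {w : M.Group} {W : Mat l}
    (hW : ∀ j, rep M.toCoxeterSystem hp.isCartan w (sr j) = W j) {u : (Fin l → ℤ) × (Fin l → ℤ)}
    (h : ActP W s t (0, 1) u) : vecq (Q : ZMod p) u ∈ LamU hp p Q w := by
  intro x
  have h1 := lam_act hp hq hW h x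
  have h2 : ev (Q : ZMod p) (0, 1) = Q := by
    unfold ev
    push_cast
    ring
  rw [h2] at h1
  exact h1

theorem cv_vecq {p : ℕ} {q : ZMod p} {s t : ℤ} (hq : q ^ 2 = s * q + t) {v : M.Group} {V : Mat l}
    (hV : ∀ j, rep M.toCoxeterSystem hp.isCartan v (sr j) = V j) {m : ℤ × ℤ} {u : (Fin l → ℤ) × (Fin l → ℤ)}
    (h : ActP V s t m u) (n : ℕ) : cv hp (vecq q u) (v ^ n) = ev q m ^ n • vecq q u := by
  apply lam_ext
  intro x
  rw [lam_cv, lam_smul']
  induction n generalizing x with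
  | zero => rw [pow_zero, map_one, Module.End.one_apply, pow_zero, one_mul]
  | succ n ih =>
    rw [pow_succ v n, map_mul, Module.End.mul_apply, ih, lam_act hp hq hV h, pow_succ]
    ring

/-! ### invariants -/

/-- power sums over the roots -/
def Sk (D : ChevalleyDatum) (l : ℕ) {p : ℕ} (c : Fin l → ZMod p) (k : ℕ) : ZMod p :=
  ∑ r ∈ Finset.range D.nroots, lam c (vec D l r) ^ k

/-- the number of the roots with value `0` -/
def Zc (D : ChevalleyDatum) (l : ℕ) {p : ℕ} (c : Fin l → ZMod p) : ℕ :=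
  ∑ r ∈ Finset.range D.nroots, if lam c (vec D l r) = 0 then 1 else 0

theorem Sk_eq {p : ℕ} {q : ZMod p} {s t : ℤ} (hq : q ^ 2 = s * q + t) {u : (Fin l → ℤ) × (Fin l → ℤ)} {k : ℕ} {N : ℤ × ℤ}
    (h : ∑ r ∈ Finset.range D.nroots, pw s t (dt u (vec D l r)) k = N) : Sk D l (vecq q u) k = ev q N := by
  rw [← h, ev_sum]
  unfold Sk
  refine Finset.sum_congr rfl fun r _ => ?_
  rw [lam_vecq, ev_pw hq]

theorem Zc_eq {p : ℕ} [hpp : Fact p.Prime] {q : ZMod p} {s t : ℤ} (hq : q ^ 2 = s * q + t) {N : ℕ} (hN : ¬ p ∣ N)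
    {u : (Fin l → ℤ) × (Fin l → ℤ)}
    (h : ∀ r ∈ Finset.range D.nroots, dt u (vec D l r) = 0 ∨ nrm s t (dt u (vec D l r)) ∣ N) {z : ℕ}
    (hz : (∑ r ∈ Finset.range D.nroots, if dt u (vec D l r) = 0 then 1 else 0) = z) : Zc D l (vecq q u) = z := by
  rw [← hz]
  unfold Zc
  refine Finset.sum_congr rfl fun r hr => ?_
  rw [lam_vecq]
  by_cases h0 : dt u (vec D l r) = 0
  · rw [if_pos h0, h0, if_pos]
    unfold ev
    simp
  · rw [if_neg h0, if_neg]
    exact ev_ne_zero hq hN ((h r hr).resolve_left h0)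

theorem Sk_smul {p : ℕ} (i : ZMod p) (c : Fin l → ZMod p) (k : ℕ) : Sk D l (i • c) k = i ^ k * Sk D l c k := by
  unfold Sk
  rw [Finset.mul_sum]
  refine Finset.sum_congr rfl fun r _ => ?_
  rw [lam_smul', mul_pow]

theorem Zc_smul {p : ℕ} [hpp : Fact p.Prime] {i : ZMod p} (hi : i ≠ 0) (c : Fin l → ZMod p) :
    Zc D l (i • c) = Zc D l c := by
  unfold Zc
  refine Finset.sum_congr rfl fun r _ => ?_
  rw [lam_smul']
  by_cases h : lam c (vec D l r) = 0
  · rw [if_pos h, h, mul_zero, if_pos rfl]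
  · rw [if_neg h, if_neg (mul_ne_zero hi h)]

section

variable {hp}
variable {p Q d : ℕ} [hpp : Fact p.Prime] {w : M.Group} {S : Type*} [Group S] {X : (Fin l → ZMod p) → S}
  (H : ModelS hp p Q w d X)

include H

theorem ModelS.zero : X 0 = 1 := by
  have h0 : (0 : Fin l → ZMod p) ∈ LamU hp p Q w := by
    intro x
    unfold lam
    simp
  have h1 := H.add 0 h0 0 h0
  rw [add_zero] at h1
  exact mul_eq_left.1 h1.symm

theorem ModelS.npow {c : Fin l → ZMod p} (hc : c ∈ LamU hp p Q w) (i : ℕ) : X c ^ i = X ((i : ZMod p) • c) := by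
  induction i with
  | zero => rw [pow_zero, Nat.cast_zero, zero_smul, H.zero]
  | succ i ih =>
    rw [pow_succ, ih, ← H.add _ (Lam.smul hp _ hc) _ hc]
    congr 1
    rw [Nat.cast_succ, add_smul, one_smul]

theorem ModelS.Sk_conj {c c' : Fin l → ZMod p} (hc : c ∈ LamU hp p Q w) (hc' : c' ∈ LamU hp p Q w) {g : S}
    (h : g * X c * g⁻¹ = X c') (k : ℕ) : Sk D l c k = Sk D l c' k := by
  obtain ⟨w', hw'⟩ := H.fus c hc c' hc' g h
  unfold Sk
  rw [← sum_rep hp (fun a => lam c' a ^ k) w']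
  refine Finset.sum_congr rfl fun r _ => ?_
  rw [hw']

theorem ModelS.Zc_conj {c c' : Fin l → ZMod p} (hc : c ∈ LamU hp p Q w) (hc' : c' ∈ LamU hp p Q w) {g : S}
    (h : g * X c * g⁻¹ = X c') : Zc D l c = Zc D l c' := by
  obtain ⟨w', hw'⟩ := H.fus c hc c' hc' g h
  unfold Zc
  rw [← sum_rep hp (fun a => if lam c' a = 0 then 1 else 0) w']
  refine Finset.sum_congr rfl fun r _ => ?_
  rw [hw']

theorem ModelS.fus_pow {c : Fin l → ZMod p} (hc : c ∈ LamU hp p Q w) {k : ℕ} (hk : Sk D l c k ≠ 0) (g : S) (i : ℕ)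
    (h : g * X c * g⁻¹ = X c ^ i) : (i : ZMod p) ^ k = 1 := by
  rw [H.npow hc] at h
  have h1 := H.Sk_conj hc (Lam.smul hp _ hc) h k
  rw [Sk_smul] at h1
  exact mul_right_cancel₀ hk (by rw [one_mul]; exact h1.symm)

theorem ModelS.ne_one {c : Fin l → ZMod p} (hc : c ∈ LamU hp p Q w) {k : ℕ} (hk0 : k ≠ 0) (hk : Sk D l c k ≠ 0) :
    X c ≠ 1 := by
  intro h
  apply hk
  rw [H.inj c hc h]
  unfold Sk
  refine Finset.sum_eq_zero fun r _ => ?_
  rw [lam_zero', zero_pow hk0]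
where
  lam_zero' {x : Fin l → ℤ} : lam (0 : Fin l → ZMod p) x = 0 := by
    unfold lam
    simp

theorem ModelS.order {c : Fin l → ZMod p} (hc : c ∈ LamU hp p Q w) {k : ℕ} (hk0 : k ≠ 0) (hk : Sk D l c k ≠ 0) :
    orderOf (X c) = p :=
  orderOf_eq_prime (H.pow c hc) (H.ne_one hc hk0 hk)

theorem ModelS.ne_pow {c c' : Fin l → ZMod p} (hc : c ∈ LamU hp p Q w) (hc' : c' ∈ LamU hp p Q w) {k : ℕ} (hk0 : k ≠ 0)
    (hk : Sk D l c k ≠ 0) (hz : Zc D l c ≠ Zc D l c') (g : S) (i : ℕ) : g * X c * g⁻¹ ≠ X c' ^ i := by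
  intro h
  by_cases hi : (i : ZMod p) = 0
  · rw [H.npow hc', hi, zero_smul, H.zero, conj_eq_one_iff] at h
    exact H.ne_one hc hk0 hk h
  · rw [H.npow hc'] at h
    exact hz ((H.Zc_conj hc (Lam.smul hp _ hc') h).trans (Zc_smul hi c'))

end

/-! ### `l(B₀(C(x))) ≥ 2` -/

section rank

variable {p : ℕ} [hpp : Fact p.Prime] {N : Ideal AlgInt}

theorem two_le_rank_cent {S : Type*} [Group S] [Finite S] (hM : IsPModular p N) (x y m : S) (hxy : Commute x y)
    (hy1 : y ≠ 1) (hyp : y ^ p = 1) (hmx : Commute m x) (n : ℕ) (hn : (n : ZMod p) ≠ 1) (hm : m * y * m⁻¹ = y ^ n) :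
    2 ≤ blockRank p (principalBlock N ↥(Subgroup.centralizer ({x} : Set S))) := by
  have hp1 : p.Prime := hpp.out
  let C := Subgroup.centralizer ({x} : Set S)
  have hyC : y ∈ C := Subgroup.mem_centralizer_singleton_iff.2 hxy.symm.eq
  have hmC : m ∈ C := Subgroup.mem_centralizer_singleton_iff.2 hmx.eq
  -- the p'-part
  obtain ⟨k, t, ht, hkt⟩ : ∃ k t : ℕ, ¬ p ∣ t ∧ orderOf m = p ^ k * t :=
    Nat.exists_eq_pow_mul_and_not_dvd (orderOf_pos m).ne' p hp1.ne_one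
  have hc0 : (m ^ p ^ k) ^ t = 1 := by rw [← pow_mul, ← hkt, pow_orderOf_eq_one]
  have hact : ∀ j : ℕ, m ^ j * y * (m ^ j)⁻¹ = y ^ n ^ j := by
    intro j
    induction j with
    | zero => rw [pow_zero, pow_zero, one_mul, inv_one, mul_one, pow_one]
    | succ j ih =>
      rw [pow_succ', mul_inv_rev]
      calc m * m ^ j * y * ((m ^ j)⁻¹ * m⁻¹) = m * (m ^ j * y * (m ^ j)⁻¹) * m⁻¹ := by group
        _ = (m * y * m⁻¹) ^ n ^ j := by rw [ih, conj_pow]
        _ = y ^ n ^ (j + 1) := by rw [hm, ← pow_mul, ← pow_succ']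
  let c : C := ⟨m ^ p ^ k, pow_mem hmC _⟩
  let y' : C := ⟨y, hyC⟩
  have hcy : c * y' * c⁻¹ = y' ^ n ^ p ^ k := Subtype.ext (hact (p ^ k))
  have hy'p : y' ^ p = 1 := Subtype.ext hyp
  refine Cfsg.Agent.H296.KB.two_le_rank (C := C) hM (Subgroup.zpowers y') ?_ c ?_ ?_ y' (Subgroup.mem_zpowers _) ?_
  · rintro ⟨_, j, rfl⟩
    refine ⟨1, Subtype.ext ?_⟩
    show (y' ^ j) ^ p ^ 1 = 1
    rw [pow_one, ← zpow_natCast, zpow_comm, zpow_natCast, hy'p, one_zpow]
  · intro hd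
    apply ht
    refine hd.trans (orderOf_dvd_of_pow_eq_one ?_)
    exact Subtype.ext hc0
  · rintro _ ⟨j, rfl⟩
    refine ⟨(n ^ p ^ k : ℕ) * j, ?_⟩
    show y' ^ (((n ^ p ^ k : ℕ) : ℤ) * j) = c * y' ^ j * c⁻¹
    rw [← conj_zpow, hcy, zpow_mul, zpow_natCast]
  · intro h
    apply hn
    have h1 : c * y' * c⁻¹ = y' := by rw [h, mul_inv_cancel_right]
    rw [hcy] at h1
    have h2 : y ^ n ^ p ^ k = y ^ 1 := by
      rw [pow_one]
      exact congrArg Subtype.val h1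
    have h3 : orderOf y = p := orderOf_eq_prime hyp hy1
    rw [pow_eq_pow_iff_modEq, h3, ← ZMod.natCast_eq_natCast_iff] at h2
    push_cast at h2
    rw [ZMod.pow_card_pow] at h2
    exact h2

end rank

end Cfsg.Agent.H567.KB
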