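import Cfsg.Agent.H567.KB.Line

/-!
# Blocks from a line of the torus model (S4822, KE4; helper567)

* `commW_of_chain` : commuting elements of the Weyl group from chains;
* `Line` : a line `⟨X c⟩` with an element centralising `X c` and acting on `X y`;
* `ModelS.two_le_line`, `ModelS.two_le` : `l(B₀(C(X c))) ≥ 2`, `l(B₀(S)) ≥ 2`.
-/

set_option autoImplicit false
set_option linter.unusedSectionVars false

namespace Cfsg.Agent.H567.KB

open CoxeterSystem Cfsg Cfsg.Lie Cfsg.Lie.ChevalleyDatum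
open Cfsg.Agent.ChevalleyStructure.CoxeterGeom Cfsg.Agent.ChevalleyStructure.CoxeterGeomTypes
open Cfsg.Agent.Tits.Roots Cfsg.Agent.Tits.Core Cfsg.Agent.Nodes Cfsg.Agent.Nodes.Reps Cfsg.Agent.Nodes.RGDChev
open Cfsg.Agent.H129.WData Cfsg.Agent.H210.EL Cfsg.Agent.H440.TD4 Cfsg.Agent.H508.KB

variable {D : ChevalleyDatum} {l : ℕ} {M : CoxeterMatrix (Fin l)} (hp : IsType D l M)

/-- the element of a chain -/
def wo (M : CoxeterMatrix (Fin l)) (C : List (Fin l × Mat l)) : M.Group :=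
  M.toCoxeterSystem.wordProd (C.map Prod.fst)

theorem rep_wo {A : Mat l} (hA : ∀ i j, A i j = cartanOf D l i j) {C : List (Fin l × Mat l)} (h : ChainOK A C)
    (j : Fin l) : rep M.toCoxeterSystem hp.isCartan (wo M C) (sr j) = hd C j :=
  chain_rep hp M.toCoxeterSystem hA h j

theorem commW_wo {A : Mat l} (hA : ∀ i j, A i j = cartanOf D l i j) {Cv Cw : List (Fin l × Mat l)} (hv : ChainOK A Cv)
    (hw : ChainOK A Cw) (hc : CommOK (hd Cv) (hd Cw)) : CommW hp (wo M Cv) (wo M Cw) := by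
  have key : ∀ (W : M.Group) (Wm : Mat l), (∀ j, rep M.toCoxeterSystem hp.isCartan W (sr j) = Wm j) →
      ∀ (x : Fin l → ℤ) (m : Fin l), rep M.toCoxeterSystem hp.isCartan W x m = ∑ n, x n * Wm n m :=
    fun W Wm h x m => Cfsg.Agent.H795.TorsData.rep_of_sr hp M.toCoxeterSystem h x m
  have hV := key _ _ (rep_wo hp hA hv)
  have hW := key _ _ (rep_wo hp hA hw)
  intro x
  funext m
  rw [hV, hW]
  simp only [hV, hW, Finset.sum_mul, Finset.mul_sum]
  rw [Finset.sum_comm]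
  conv_rhs => rw [Finset.sum_comm]
  refine Finset.sum_congr rfl fun j _ => ?_
  have h1 := hc j m
  have h2 : x j * ∑ n, hd Cv j n * hd Cw n m = x j * ∑ n, hd Cw j n * hd Cv n m := by rw [h1]
  rw [Finset.mul_sum, Finset.mul_sum] at h2
  simp only [mul_assoc]
  exact h2.symm

section

variable {hp}
variable {p Q d : ℕ} [hpp : Fact p.Prime] {w : M.Group} {S : Type*} [Group S] [Finite S] {X : (Fin l → ZMod p) → S}
  {N : Ideal AlgInt}

/-- the element acting on a line -/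
theorem ModelS.exists_act (H : ModelS hp p Q w d X) {v : M.Group} (hv : CommW hp v w) {y : Fin l → ZMod p}
    (hy : y ∈ LamU hp p Q w) {μ : ZMod p} (hyv : cv hp y (v ^ d) = μ • y) (hμ : μ ≠ 1) :
    ∃ m : S, (∀ c ∈ LamU hp p Q w, cv hp c (v ^ d) = c → Commute m (X c)) ∧
      ∃ n : ℕ, (n : ZMod p) ≠ 1 ∧ m * X y * m⁻¹ = X y ^ n := by
  obtain ⟨m, hm⟩ := H.act v hv
  have : NeZero p := ⟨hpp.out.ne_zero⟩
  refine ⟨m⁻¹, fun c hc h1 => ?_, μ.val, ?_, ?_⟩
  · have h2 := hm c hc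
    rw [h1] at h2
    have h3 : m * X c = X c * m := by
      calc m * X c = m * X c * m⁻¹ * m := by group
        _ = X c * m := by rw [h2]
    exact (show Commute m (X c) from h3).inv_left
  · rw [ZMod.natCast_val, ZMod.cast_id]
    exact hμ
  · have h2 := hm y hy
    rw [hyv] at h2
    rw [H.npow hy, ZMod.natCast_val, ZMod.cast_id, ← h2]
    group

theorem ModelS.commute (H : ModelS hp p Q w d X) {c c' : Fin l → ZMod p} (hc : c ∈ LamU hp p Q w)
    (hc' : c' ∈ LamU hp p Q w) : Commute (X c) (X c') := by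
  show X c * X c' = X c' * X c
  rw [← H.add c hc c' hc', add_comm, H.add c' hc' c hc]

theorem ModelS.two_le_line (hM : IsPModular p N) (H : ModelS hp p Q w d X) {v : M.Group} (hv : CommW hp v w)
    {y : Fin l → ZMod p} (hy : y ∈ LamU hp p Q w) (hy0 : y ≠ 0) {μ : ZMod p} (hyv : cv hp y (v ^ d) = μ • y) (hμ : μ ≠ 1)
    {c : Fin l → ZMod p} (hc : c ∈ LamU hp p Q w) (hcv : cv hp c (v ^ d) = c) :
    2 ≤ blockRank p (principalBlock N ↥(Subgroup.centralizer ({X c} : Set S))) := by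
  obtain ⟨m, hm1, n, hn, hmy⟩ := H.exists_act hv hy hyv hμ
  exact two_le_rank_cent hM (X c) (X y) m (H.commute hc hy) (fun h => hy0 (H.inj y hy h)) (H.pow y hy) (hm1 c hc hcv) n hn
    hmy

end

section rank

variable {p : ℕ} [hpp : Fact p.Prime] {N : Ideal AlgInt}

theorem two_le_rank_of {S : Type*} [Group S] [Finite S] (hM : IsPModular p N) (y m : S) (hy1 : y ≠ 1) (hyp : y ^ p = 1)
    (n : ℕ) (hn : (n : ZMod p) ≠ 1) (hm : m * y * m⁻¹ = y ^ n) : 2 ≤ blockRank p (principalBlock N S) := by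
  have hp1 : p.Prime := hpp.out
  obtain ⟨k, t, ht, hkt⟩ : ∃ k t : ℕ, ¬ p ∣ t ∧ orderOf m = p ^ k * t :=
    Nat.exists_eq_pow_mul_and_not_dvd (orderOf_pos m).ne' p hp1.ne_one
  have hc0 : (m ^ p ^ k) ^ t = 1 := by rw [← pow_mul, ← hkt, pow_orderOf_eq_one]
  have hact : ∀ j : ℕ, m ^ j * y * (m ^ j)⁻¹ = y ^ n ^ j := by
    intro j
    induction j with
    | zero => rw [pow_zero, pow_zero, one_mul, inv_one, mul_one, pow_one]
    | succ j ih =>
      rw [pow_succ', mul_inv_rev]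
      calc m * m ^ j * y * ((m ^ j)⁻¹ * m⁻¹) = m * (m ^ j * y * (m ^ j)⁻¹) * m⁻¹ := by group
        _ = (m * y * m⁻¹) ^ n ^ j := by rw [ih, conj_pow]
        _ = y ^ n ^ (j + 1) := by rw [hm, ← pow_mul, ← pow_succ']
  have hcy := hact (p ^ k)
  refine Cfsg.Agent.H296.KB.two_le_rank (C := S) hM (Subgroup.zpowers y) ?_ (m ^ p ^ k) ?_ ?_ y (Subgroup.mem_zpowers _) ?_
  · rintro ⟨_, j, rfl⟩
    refine ⟨1, Subtype.ext ?_⟩
    show (y ^ j) ^ p ^ 1 = 1
    rw [pow_one, ← zpow_natCast, zpow_comm, zpow_natCast, hyp, one_zpow]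
  · intro hd
    exact ht (hd.trans (orderOf_dvd_of_pow_eq_one hc0))
  · rintro _ ⟨j, rfl⟩
    refine ⟨(n ^ p ^ k : ℕ) * j, ?_⟩
    show y ^ (((n ^ p ^ k : ℕ) : ℤ) * j) = m ^ p ^ k * y ^ j * (m ^ p ^ k)⁻¹
    rw [← conj_zpow, hcy, zpow_mul, zpow_natCast]
  · intro h
    apply hn
    have h1 : m ^ p ^ k * y * (m ^ p ^ k)⁻¹ = y := by rw [h, mul_inv_cancel_right]
    rw [hcy] at h1
    have h2 : y ^ n ^ p ^ k = y ^ 1 := by
      rw [pow_one]
      exact h1
    have h3 : orderOf y = p := orderOf_eq_prime hyp hy1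
    rw [pow_eq_pow_iff_modEq, h3, ← ZMod.natCast_eq_natCast_iff] at h2
    push_cast at h2
    rw [ZMod.pow_card_pow] at h2
    exact h2

end rank

section

variable {hp}
variable {p Q d : ℕ} [hpp : Fact p.Prime] {w : M.Group} {S : Type*} [Group S] [Finite S] {X : (Fin l → ZMod p) → S}
  {N : Ideal AlgInt}

theorem ModelS.two_le (hM : IsPModular p N) (H : ModelS hp p Q w d X) {v : M.Group} (hv : CommW hp v w)
    {y : Fin l → ZMod p} (hy : y ∈ LamU hp p Q w) (hy0 : y ≠ 0) {μ : ZMod p} (hyv : cv hp y (v ^ d) = μ • y) (hμ : μ ≠ 1) :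
    2 ≤ blockRank p (principalBlock N S) := by
  obtain ⟨m, hm1, n, hn, hmy⟩ := H.exists_act hv hy hyv hμ
  exact two_le_rank_of hM (X y) m (fun h => hy0 (H.inj y hy h)) (H.pow y hy) n hn hmy

end

end Cfsg.Agent.H567.KB
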